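import Mathlib
import Cfsg.Agent.Lib.Helper48.Generation
import Cfsg.Agent.S0023

set_option autoImplicit false

namespace Cfsg.Agent.Lib.Helper61

/-- A finite commutative group which is not cyclic contains, for some prime `p`, elements
`u, v` of order dividing `p` with `v ≠ 1` and `u * v ^ i ≠ 1` for all `i`
(so `⟨u, v⟩` is elementary abelian of rank two). -/
theorem exists_prime_pair_of_not_isCyclic {Q : Type*} [CommGroup Q] [Finite Q]
    (h : ¬ IsCyclic Q) :
    ∃ p : ℕ, p.Prime ∧ ∃ u v : Q, u ^ p = 1 ∧ v ^ p = 1 ∧ v ≠ 1 ∧ ∀ i : ℕ, u * v ^ i ≠ 1 := by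
  classical
  have hEx : Monoid.ExponentExists Q := Monoid.ExponentExists.of_finite
  obtain ⟨g, hg⟩ := Monoid.exists_orderOf_eq_exponent hEx
  have hw : ∃ w : Q, w ∉ Subgroup.zpowers g := by
    by_contra hc
    push Not at hc
    exact h ⟨g, hc⟩
  obtain ⟨w, hw⟩ := hw
  have hex : ∃ n : ℕ, 0 < n ∧ w ^ n ∈ Subgroup.zpowers g :=
    ⟨orderOf w, orderOf_pos w, by rw [pow_orderOf_eq_one]; exact one_mem _⟩
  obtain ⟨hn₀pos, hn₀mem⟩ := Nat.find_spec hex
  have hn₀min : ∀ m, 0 < m → m < Nat.find hex → w ^ m ∉ Subgroup.zpowers g :=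
    fun m hm hlt hmem => Nat.find_min hex hlt ⟨hm, hmem⟩
  have hn₀1 : Nat.find hex ≠ 1 := by
    intro h1
    rw [h1, pow_one] at hn₀mem
    exact hw hn₀mem
  obtain ⟨p, hp, hpn⟩ := Nat.exists_prime_and_dvd hn₀1
  obtain ⟨m, hm⟩ := hpn
  have hmpos : 0 < m := by
    rcases Nat.eq_zero_or_pos m with h0 | h0
    · rw [h0, mul_zero] at hm; omega
    · exact h0
  have hmlt : m < Nat.find hex := by
    rw [hm]; nlinarith [hp.two_le]
  have hv₁not : w ^ m ∉ Subgroup.zpowers g := hn₀min m hmpos hmlt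
  have hv₁p : (w ^ m) ^ p ∈ Subgroup.zpowers g := by
    rw [← pow_mul, mul_comm, ← hm]; exact hn₀mem
  obtain ⟨k, hk⟩ := (mem_powers_iff_mem_zpowers.mpr hv₁p)
  have hk : g ^ k = (w ^ m) ^ p := hk
  have hpo : p ∣ orderOf (w ^ m) := by
    by_contra hnd
    have hcop : p.Coprime (orderOf (w ^ m)) := (Nat.Prime.coprime_iff_not_dvd hp).mpr hnd
    obtain ⟨j, hj⟩ := exists_pow_eq_self_of_coprime hcop
    apply hv₁not
    rw [← hj]
    exact Subgroup.pow_mem _ hv₁p j
  obtain ⟨e', he'⟩ := hpo.trans (Monoid.order_dvd_exponent (w ^ m))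
  have he'pos : 0 < e' := by
    have h1 : 0 < Monoid.exponent Q := Monoid.exponent_pos.mpr hEx
    rcases Nat.eq_zero_or_pos e' with h0 | h0
    · rw [h0, mul_zero] at he'; omega
    · exact h0
  have hpk : p ∣ k := by
    have h1 : (g ^ k) ^ e' = 1 := by
      rw [hk, ← pow_mul, ← he']; exact Monoid.pow_exponent_eq_one (w ^ m)
    rw [← pow_mul] at h1
    have h2 : orderOf g ∣ k * e' := orderOf_dvd_of_pow_eq_one h1
    rw [hg, he'] at h2
    exact Nat.dvd_of_mul_dvd_mul_right he'pos h2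
  obtain ⟨k', hk'⟩ := hpk
  have hvp : (w ^ m * (g ^ k')⁻¹) ^ p = 1 := by
    have h1 : (g ^ k') ^ p = g ^ k := by rw [← pow_mul, mul_comm k' p, ← hk']
    rw [mul_pow, inv_pow, h1, hk, mul_inv_cancel]
  have hvnot : w ^ m * (g ^ k')⁻¹ ∉ Subgroup.zpowers g := by
    intro h1
    apply hv₁not
    have h2 : w ^ m = (w ^ m * (g ^ k')⁻¹) * g ^ k' := by group
    rw [h2]
    exact Subgroup.mul_mem _ h1 (Subgroup.pow_mem _ (Subgroup.mem_zpowers g) k')
  have hv1 : w ^ m * (g ^ k')⁻¹ ≠ 1 := fun h1 => hvnot (h1 ▸ one_mem _)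
  refine ⟨p, hp, g ^ e', w ^ m * (g ^ k')⁻¹, ?_, hvp, hv1, ?_⟩
  · rw [← pow_mul, mul_comm, ← he']; exact Monoid.pow_exponent_eq_one g
  · intro i hi
    by_cases hvi : (w ^ m * (g ^ k')⁻¹) ^ i = 1
    · rw [hvi, mul_one] at hi
      have h1 : orderOf g ∣ e' := orderOf_dvd_of_pow_eq_one hi
      rw [hg, he'] at h1
      have h2 := Nat.le_of_dvd he'pos h1
      nlinarith [hp.two_le]
    · have hvi_mem : (w ^ m * (g ^ k')⁻¹) ^ i ∈ Subgroup.zpowers g := by
        have h1 : (w ^ m * (g ^ k')⁻¹) ^ i = (g ^ e')⁻¹ := by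
          rw [eq_inv_iff_mul_eq_one, mul_comm]; exact hi
        rw [h1]
        exact Subgroup.inv_mem _ (Subgroup.pow_mem _ (Subgroup.mem_zpowers g) e')
      have : Fact p.Prime := ⟨hp⟩
      have hov : orderOf (w ^ m * (g ^ k')⁻¹) = p := orderOf_eq_prime hvp hv1
      have hcop : i.Coprime (orderOf (w ^ m * (g ^ k')⁻¹)) := by
        rw [hov]
        apply Nat.Coprime.symm
        rw [Nat.Prime.coprime_iff_not_dvd hp]
        intro hdvd
        apply hvi
        obtain ⟨c, rfl⟩ := hdvd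
        rw [pow_mul, hvp, one_pow]
      obtain ⟨j, hj⟩ := exists_pow_eq_self_of_coprime hcop
      apply hvnot
      rw [← hj]; exact Subgroup.pow_mem _ hvi_mem j

open scoped IsMulCommutative in
/-- If `A` is an abelian subgroup and `D ≤ A` with `A / D` not cyclic, there are a prime `p`
dividing `|A|` and `x, y ∈ A` with `x ^ p, y ^ p ∈ D`, `y ∉ D` and `x * y ^ i ∉ D` for all `i`. -/
theorem exists_prime_pair_of_not_cyclic_quotient {X : Type*} [Group X] [Finite X]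
    (A D : Subgroup X) (hAab : IsMulCommutative A) (hDA : D ≤ A)
    (hD : ¬ ∃ a ∈ A, D ⊔ Subgroup.zpowers a = A) :
    ∃ p : ℕ, p.Prime ∧ p ∣ Nat.card A ∧ ∃ x ∈ A, ∃ y ∈ A, x ^ p ∈ D ∧ y ^ p ∈ D ∧ y ∉ D ∧
      ∀ i : ℕ, x * y ^ i ∉ D := by
  have hnc : ¬ IsCyclic (A ⧸ D.subgroupOf A) := by
    intro hcyc
    obtain ⟨g, hg⟩ := IsCyclic.exists_generator (α := A ⧸ D.subgroupOf A)
    obtain ⟨a, rfl⟩ := QuotientGroup.mk_surjective g
    apply hD
    refine ⟨a, a.2, le_antisymm (sup_le hDA (by rw [Subgroup.zpowers_le]; exact a.2)) ?_⟩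
    intro b hb
    obtain ⟨n, hn⟩ := Subgroup.mem_zpowers_iff.mp (hg (QuotientGroup.mk (⟨b, hb⟩ : A)))
    have h1 : ((a ^ n : A) : A ⧸ D.subgroupOf A) = ((⟨b, hb⟩ : A) : A ⧸ D.subgroupOf A) := by
      rw [← hn]; rfl
    rw [QuotientGroup.eq, Subgroup.mem_subgroupOf] at h1
    have h2 : b = (a : X) ^ n * (((a : X) ^ n)⁻¹ * b) := by group
    rw [h2]
    refine Subgroup.mul_mem _ (Subgroup.mem_sup_right (Subgroup.zpow_mem _ (Subgroup.mem_zpowers _) n))
      (Subgroup.mem_sup_left ?_)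
    simpa using h1
  obtain ⟨p, hp, u, v, hu, hv, hv1, huv⟩ := exists_prime_pair_of_not_isCyclic hnc
  obtain ⟨x, rfl⟩ := QuotientGroup.mk_surjective u
  obtain ⟨y, rfl⟩ := QuotientGroup.mk_surjective v
  have : Fact p.Prime := ⟨hp⟩
  refine ⟨p, hp, ?_, x, x.2, y, y.2, ?_, ?_, ?_, ?_⟩
  · have h1 : orderOf (y : A ⧸ D.subgroupOf A) = p := orderOf_eq_prime hv hv1
    rw [← h1]
    exact (orderOf_dvd_natCard _).trans (Subgroup.card_quotient_dvd_card _)
  · have h1 : ((x ^ p : A) : A ⧸ D.subgroupOf A) = 1 := hu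
    rw [QuotientGroup.eq_one_iff, Subgroup.mem_subgroupOf] at h1
    simpa using h1
  · have h1 : ((y ^ p : A) : A ⧸ D.subgroupOf A) = 1 := hv
    rw [QuotientGroup.eq_one_iff, Subgroup.mem_subgroupOf] at h1
    simpa using h1
  · intro hyD
    apply hv1
    rw [QuotientGroup.eq_one_iff, Subgroup.mem_subgroupOf]
    exact hyD
  · intro i hi
    apply huv i
    have h1 : ((x * y ^ i : A) : A ⧸ D.subgroupOf A) = 1 := by
      rw [QuotientGroup.eq_one_iff, Subgroup.mem_subgroupOf]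
      simpa using hi
    exact h1

open Cfsg.Agent.Lib.Helper48 in
/-- Coprime generation for an abelian group `A` normalizing `Y`: if `a, b ∈ A` have `p`-th
powers centralizing `Y` (with `p ∤ |Y|`), then `Y` is generated by the centralizers in `Y` of
`b` and of the `a * b ^ i`. -/
theorem coprime_generation_abelian {X : Type*} [Group X] [Finite X] {p : ℕ} [Fact p.Prime]
    (A Y : Subgroup X) (hAab : ∀ x ∈ A, ∀ y ∈ A, x * y = y * x)
    (hAY : A ≤ Subgroup.normalizer (Y : Set X)) (hcop : (Nat.card A).Coprime (Nat.card Y))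
    (hpY : ¬ p ∣ Nat.card Y) (a b : X) (ha : a ∈ A) (hb : b ∈ A)
    (hap : a ^ p ∈ Subgroup.centralizer (Y : Set X))
    (hbp : b ^ p ∈ Subgroup.centralizer (Y : Set X)) :
    Y ≤ (Y ⊓ Subgroup.centralizer ({b} : Set X)) ⊔
      ⨆ i : ℕ, Y ⊓ Subgroup.centralizer ({a * b ^ i} : Set X) := by
  apply le_of_forall_sylow_le
  intro q hq
  have : Fact q.Prime := ⟨hq⟩
  have hsolvA : Group.IsSolvable A :=
    Group.isSolvable_of_comm (fun x y => Subtype.ext (hAab x x.2 y y.2))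
  obtain ⟨Q', hQ'⟩ := Cfsg.Agent.S0023.result A Y hAY hcop (Or.inl hsolvA) q
  refine ⟨Q', ?_⟩
  set Q : Subgroup X := (Q' : Subgroup Y).map Y.subtype with hQdef
  have hQY : Q ≤ Y := Subgroup.map_subtype_le _
  have hQq : IsPGroup q Q := Q'.isPGroup'.map Y.subtype
  have : Group.IsNilpotent Q := hQq.isNilpotent
  have hQp : ¬ p ∣ Nat.card Q := fun h => hpY (h.trans (Subgroup.card_dvd_of_le hQY))
  let a' : Subgroup.normalizer (Q : Set X) := ⟨a, hQ' ha⟩
  let b' : Subgroup.normalizer (Q : Set X) := ⟨b, hQ' hb⟩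
  have hc : Commute a' b' := Subtype.ext (hAab a ha b hb)
  have hpow : ∀ (c : Subgroup.normalizer (Q : Set X)),
      (c : X) ^ p ∈ Subgroup.centralizer (Y : Set X) → (normConj Q c) ^ p = 1 := by
    intro c hcp
    rw [← map_pow]
    apply MulEquiv.ext
    intro x
    apply Subtype.ext
    show ((c ^ p : Subgroup.normalizer (Q : Set X)) : X) * x *
      ((c ^ p : Subgroup.normalizer (Q : Set X)) : X)⁻¹ = x
    rw [Subgroup.coe_pow]
    have h1 := Subgroup.mem_centralizer_iff.mp hcp x (hQY x.2)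
    rw [← h1]; group
  have hgen := nilpotent_generation hQp (normConj Q a') (normConj Q b') (hc.map (normConj Q))
    (hpow a' hap) (hpow b' hbp)
  have hle : Q ≤ (Q ⊓ Subgroup.centralizer ({b} : Set X)) ⊔
      ⨆ i : ℕ, Q ⊓ Subgroup.centralizer ({a * b ^ i} : Set X) := by
    intro x hx
    have h1 : (⟨x, hx⟩ : Q) ∈ (⊤ : Subgroup Q) := Subgroup.mem_top _
    rw [← hgen] at h1
    have h2 : x ∈ (fixSubgroup (normConj Q b') ⊔
        ⨆ i : ℕ, fixSubgroup (normConj Q a' * normConj Q b' ^ i)).map Q.subtype :=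
      ⟨⟨x, hx⟩, h1, rfl⟩
    rw [Subgroup.map_sup, Subgroup.map_iSup] at h2
    have hle : Subgroup.map Q.subtype (fixSubgroup (normConj Q b')) ⊔
        ⨆ i : ℕ, Subgroup.map Q.subtype (fixSubgroup (normConj Q a' * normConj Q b' ^ i)) ≤
        (Q ⊓ Subgroup.centralizer ({b} : Set X)) ⊔
          ⨆ i : ℕ, Q ⊓ Subgroup.centralizer ({a * b ^ i} : Set X) := by
      apply sup_le_sup
      · exact fix_normConj_le Q b'
      · apply iSup_mono
        intro i
        have h3 := fix_normConj_le Q (a' * b' ^ i)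
        rw [map_mul, map_pow] at h3
        exact h3
    exact hle h2
  exact hle.trans (sup_le_sup (inf_le_inf_right _ hQY) (iSup_mono fun i => inf_le_inf_right _ hQY))

/-- Elements of `N ⊔ H` are products when `H` normalizes `N`. -/
theorem exists_mul_of_mem_sup_of_le_normalizer {X : Type*} [Group X] {N H : Subgroup X}
    (hHN : H ≤ Subgroup.normalizer (N : Set X)) {x : X} (hx : x ∈ N ⊔ H) :
    ∃ n ∈ N, ∃ h ∈ H, x = n * h := by
  let S : Subgroup X :=
    { carrier := {x | ∃ n ∈ N, ∃ h ∈ H, x = n * h}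
      one_mem' := ⟨1, N.one_mem, 1, H.one_mem, by simp⟩
      mul_mem' := by
        rintro _ _ ⟨n, hn, h, hh, rfl⟩ ⟨n', hn', h', hh', rfl⟩
        refine ⟨n * (h * n' * h⁻¹), N.mul_mem hn
          ((Subgroup.le_normalizer_iff.mp hHN) h hh n' hn'), h * h', H.mul_mem hh hh', by group⟩
      inv_mem' := by
        rintro _ ⟨n, hn, h, hh, rfl⟩
        refine ⟨h⁻¹ * n⁻¹ * h⁻¹⁻¹, (Subgroup.le_normalizer_iff.mp hHN) h⁻¹ (H.inv_mem hh) n⁻¹
          (N.inv_mem hn), h⁻¹, H.inv_mem hh, by group⟩ }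
  have hle : N ⊔ H ≤ S :=
    sup_le (fun n hn => ⟨n, hn, 1, H.one_mem, by simp⟩) (fun h hh => ⟨1, N.one_mem, h, hh, by simp⟩)
  exact hle hx

/-- An element normalizing every member of a family normalizes its supremum. -/
theorem mem_normalizer_iSup {X : Type*} [Group X] {ι : Sort*} (H : ι → Subgroup X) (c : X)
    (hc : ∀ i, c ∈ Subgroup.normalizer ((H i : Subgroup X) : Set X)) :
    c ∈ Subgroup.normalizer ((⨆ i, H i : Subgroup X) : Set X) := by
  have key : ∀ c : X, (∀ i, c ∈ Subgroup.normalizer ((H i : Subgroup X) : Set X)) →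
      ∀ y ∈ ⨆ i, H i, c * y * c⁻¹ ∈ ⨆ i, H i := by
    intro c hc y hy
    have hm : (⨆ i, H i).map (MulAut.conj c).toMonoidHom ≤ ⨆ i, H i := by
      rw [Subgroup.map_iSup]
      refine iSup_le fun i => le_trans ?_ (le_iSup H i)
      rintro _ ⟨z, hz, rfl⟩
      exact ((Subgroup.mem_normalizer_iff.mp (hc i)) z).1 hz
    exact hm ⟨y, hy, rfl⟩
  rw [Subgroup.mem_normalizer_iff]
  intro y
  constructor
  · exact key c hc y
  · intro hy
    have := key c⁻¹ (fun i => inv_mem (hc i)) _ hy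
    simpa [mul_assoc] using this

end Cfsg.Agent.Lib.Helper61
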