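import Mathlib
import Cfsg.Agent.Lib.Helper48.Generation

set_option autoImplicit false

namespace Cfsg.Agent.Lib.Helper61

open Cfsg.Agent.Lib.Helper48 in
/-- Coprime action: if `⁅P, A⁆ = P` then `C_P(A) ≤ P'` (the norm-map argument on the
abelianization). -/
theorem inf_centralizer_le_commutator_of_commutator_eq {X : Type*} [Group X] [Finite X]
    (P A : Subgroup X) (hAP : A ≤ Subgroup.normalizer (P : Set X))
    (hcop : (Nat.card A).Coprime (Nat.card P)) (hPA : ⁅P, A⁆ = P) :
    P ⊓ Subgroup.centralizer (A : Set X) ≤ ⁅P, P⁆ := by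
  classical
  let σ : A →* MulAut P := (normConj P).comp (Subgroup.inclusion hAP)
  let τ : A →* MulAut (Abelianization P) := (abAut P).comp σ
  have : Fintype A := Fintype.ofFinite A
  let ν : Abelianization P →* Abelianization P :=
    { toFun := fun v => ∏ a : A, τ a v
      map_one' := by simp
      map_mul' := fun v w => by simp [Finset.prod_mul_distrib] }
  have hν : ∀ v, ν v = ∏ a : A, τ a v := fun v => rfl
  have hν_inv : ∀ (b : A) v, ν (τ b v) = ν v := by
    intro b v
    rw [hν, hν]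
    have h1 : ∀ a : A, τ a (τ b v) = τ (a * b) v := fun a => by rw [map_mul]; rfl
    simp_rw [h1]
    exact Fintype.prod_equiv (Equiv.mulRight b) _ _ (fun a => rfl)
  have hker : ∀ x : P, ν (Abelianization.of x) = 1 := by
    have hS : ⁅P, A⁆ ≤ ((ν.comp Abelianization.of).ker).map P.subtype := by
      rw [Subgroup.commutator_le]
      intro x hx a ha
      refine ⟨⟨x, hx⟩ * (σ ⟨a, ha⟩ ⟨x, hx⟩)⁻¹, ?_, ?_⟩
      · have h2 : Abelianization.of (σ ⟨a, ha⟩ ⟨x, hx⟩) =
            τ ⟨a, ha⟩ (Abelianization.of ⟨x, hx⟩) := rfl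
        show (ν.comp Abelianization.of) (⟨x, hx⟩ * (σ ⟨a, ha⟩ ⟨x, hx⟩)⁻¹) = 1
        rw [MonoidHom.comp_apply, map_mul, map_mul, map_inv, map_inv, h2, hν_inv,
          mul_inv_cancel]
      · show x * (a * x * a⁻¹)⁻¹ = x * a * x⁻¹ * a⁻¹
        group
    intro x
    have hx : (x : X) ∈ ⁅P, A⁆ := by rw [hPA]; exact x.2
    obtain ⟨y, hy, hyx⟩ := hS hx
    have hyx' : y = x := Subtype.ext hyx
    rw [← hyx']
    exact hy
  intro c hc
  obtain ⟨hcP, hcA⟩ := Subgroup.mem_inf.mp hc
  have h1 : ν (Abelianization.of (⟨c, hcP⟩ : P)) =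
      (Abelianization.of (⟨c, hcP⟩ : P)) ^ Nat.card A := by
    rw [hν]
    have h2 : ∀ a : A, τ a (Abelianization.of (⟨c, hcP⟩ : P)) =
        Abelianization.of (⟨c, hcP⟩ : P) := by
      intro a
      show Abelianization.of (σ a ⟨c, hcP⟩) = _
      congr 1
      apply Subtype.ext
      show (a : X) * c * (a : X)⁻¹ = c
      have h3 := Subgroup.mem_centralizer_iff.mp hcA a a.2
      rw [h3]; group
    simp_rw [h2]
    rw [Finset.prod_const, Finset.card_univ, Nat.card_eq_fintype_card]
  have h2 : (Abelianization.of (⟨c, hcP⟩ : P)) ^ Nat.card A = 1 := by rw [← h1]; exact hker _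
  have h3 : (Abelianization.of (⟨c, hcP⟩ : P)) ^ Nat.card P = 1 := by
    rw [← map_pow, pow_card_eq_one', map_one]
  have h4 : Abelianization.of (⟨c, hcP⟩ : P) = 1 := by
    have h5 := Nat.eq_one_of_dvd_coprimes hcop (orderOf_dvd_of_pow_eq_one h2)
      (orderOf_dvd_of_pow_eq_one h3)
    exact orderOf_eq_one_iff.mp h5
  have h5 : (⟨c, hcP⟩ : P) ∈ commutator P := by
    rw [← Abelianization.ker_of, MonoidHom.mem_ker]; exact h4
  rw [← Subgroup.map_subtype_commutator]
  exact ⟨_, h5, rfl⟩

/-- The normalizer of `A` normalizes the centralizer of `A`. -/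
theorem normalizer_le_normalizer_centralizer {X : Type*} [Group X] (A : Subgroup X) :
    Subgroup.normalizer (A : Set X) ≤
      Subgroup.normalizer ((Subgroup.centralizer (A : Set X) : Subgroup X) : Set X) := by
  rw [Subgroup.le_normalizer_iff]
  intro x hx c hc
  rw [Subgroup.mem_centralizer_iff] at hc ⊢
  intro a ha
  have h1 : x⁻¹ * a * x ∈ A := by
    have := (Subgroup.mem_normalizer_iff.mp (inv_mem hx) a).1 ha
    simpa using this
  have h2 := hc _ h1
  calc a * (x * c * x⁻¹) = x * ((x⁻¹ * a * x) * c) * x⁻¹ := by group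
    _ = x * (c * (x⁻¹ * a * x)) * x⁻¹ := by rw [h2]
    _ = x * c * x⁻¹ * a := by group

/-- The image in the ambient group of the centre of a subgroup. -/
theorem map_subtype_center {X : Type*} [Group X] (P : Subgroup X) :
    (Subgroup.center P).map P.subtype = P ⊓ Subgroup.centralizer (P : Set X) := by
  ext x
  constructor
  · rintro ⟨z, hz, rfl⟩
    refine Subgroup.mem_inf.mpr ⟨z.2, ?_⟩
    rw [Subgroup.mem_centralizer_iff]
    intro h hh
    have := Subgroup.mem_center_iff.mp hz ⟨h, hh⟩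
    exact congrArg Subtype.val this
  · intro hx
    obtain ⟨hxP, hxC⟩ := Subgroup.mem_inf.mp hx
    refine ⟨⟨x, hxP⟩, ?_, rfl⟩
    show (⟨x, hxP⟩ : P) ∈ Subgroup.center P
    rw [Subgroup.mem_center_iff]
    intro g
    apply Subtype.ext
    exact Subgroup.mem_centralizer_iff.mp hxC g g.2

end Cfsg.Agent.Lib.Helper61
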