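import Mathlib

set_option autoImplicit false

namespace Cfsg.Agent.Lib.Helper61

/-- An element normalizing `H` and `K` normalizes `H ⊓ K`. -/
theorem normalizer_inf_le_normalizer_inf {X : Type*} [Group X] (H K : Subgroup X) :
    Subgroup.normalizer (H : Set X) ⊓ Subgroup.normalizer (K : Set X) ≤
      Subgroup.normalizer ((H ⊓ K : Subgroup X) : Set X) := by
  intro x hx
  have h1 := Subgroup.mem_normalizer_iff.mp hx.1
  have h2 := Subgroup.mem_normalizer_iff.mp hx.2
  rw [Subgroup.mem_normalizer_iff]
  intro y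
  rw [Subgroup.mem_inf, Subgroup.mem_inf, h1 y, h2 y]

/-- An element normalizing `H` and `K` normalizes `H ⊔ K`. -/
theorem normalizer_inf_le_normalizer_sup {X : Type*} [Group X] (H K : Subgroup X) :
    Subgroup.normalizer (H : Set X) ⊓ Subgroup.normalizer (K : Set X) ≤
      Subgroup.normalizer ((H ⊔ K : Subgroup X) : Set X) := by
  have key : ∀ c : X, c ∈ Subgroup.normalizer (H : Set X) → c ∈ Subgroup.normalizer (K : Set X) →
      ∀ y ∈ H ⊔ K, c * y * c⁻¹ ∈ H ⊔ K := by
    intro c hc1 hc2 y hy
    have hm : (H ⊔ K).map (MulAut.conj c).toMonoidHom ≤ H ⊔ K := by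
      rw [Subgroup.map_sup]
      apply sup_le_sup
      · rintro _ ⟨z, hz, rfl⟩
        exact ((Subgroup.mem_normalizer_iff.mp hc1) z).1 hz
      · rintro _ ⟨z, hz, rfl⟩
        exact ((Subgroup.mem_normalizer_iff.mp hc2) z).1 hz
    exact hm ⟨y, hy, rfl⟩
  intro c hc
  rw [Subgroup.mem_normalizer_iff]
  intro y
  constructor
  · exact key c hc.1 hc.2 y
  · intro hy
    have := key c⁻¹ (inv_mem hc.1) (inv_mem hc.2) _ hy
    simpa [mul_assoc] using this

/-- A subgroup of prime order is generated by any of its non-identity elements. -/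
theorem eq_zpowers_of_prime_card {X : Type*} [Group X] [Finite X] {q : ℕ} (hq : q.Prime)
    (K : Subgroup X) (hK : Nat.card K = q) {x : X} (hx : x ∈ K) (hx1 : x ≠ 1) :
    K = Subgroup.zpowers x := by
  symm
  apply Subgroup.eq_of_le_of_card_ge
  · rw [Subgroup.zpowers_le]; exact hx
  · rw [Nat.card_zpowers, hK]
    have h1 : orderOf x ∣ q := by
      have h2 := orderOf_dvd_natCard (⟨x, hx⟩ : K)
      rw [Subgroup.orderOf_mk, hK] at h2
      exact h2
    rcases (Nat.dvd_prime hq).mp h1 with h | h
    · exact absurd (orderOf_eq_one_iff.mp h) hx1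
    · exact h.ge

/-- An element centralizing `u` centralizes the cyclic group generated by `u`. -/
theorem centralizer_singleton_le_centralizer_zpowers {X : Type*} [Group X] (u : X) :
    Subgroup.centralizer ({u} : Set X) ≤
      Subgroup.centralizer ((Subgroup.zpowers u : Subgroup X) : Set X) := by
  intro c hc
  rw [Subgroup.mem_centralizer_iff]
  intro z hz
  obtain ⟨k, rfl⟩ := Subgroup.mem_zpowers_iff.mp hz
  have hcu : u * c = c * u := Subgroup.mem_centralizer_iff.mp hc u (Set.mem_singleton u)
  have hcomm : Commute u c := hcu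
  exact (hcomm.zpow_left k).eq

end Cfsg.Agent.Lib.Helper61
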