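import Mathlib
import Cfsg.Agent.Lib.Helper61.BG9a
import Cfsg.Agent.Lib.Helper23.ThompsonTrans
import Cfsg.Agent.Lib.Helper23.PGroupEA
import Cfsg.Agent.Lib.Helper54.Puig2
import Cfsg.Agent.S1469
import Cfsg.Agent.S1451
import Cfsg.Agent.S1466

/-!
Bender–Glauberman Theorem 9.1 (uniqueness criterion for noncyclic elementary abelian subgroups),
conditional on the Fitting uniqueness corollary of Theorem 8.1 — helper61.
-/

set_option autoImplicit false

namespace Cfsg.Agent.Lib.Helper61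

open Cfsg
open scoped Pointwise commutatorElement

universe u

/-- Fitting uniqueness (a corollary of BG Theorem 8.1): if `F(H)` has rank at least 3 then
`F(H)` lies in a unique maximal subgroup. -/
def FittingUniq (G : Type u) [Group G] : Prop :=
  ∀ H : Subgroup G, IsCoatom H → ∀ q : ℕ, q.Prime → ¬ Cfsg.PRankLE q 2 ↥(Cfsg.fittingOf H) →
    Cfsg.InUniqueMaximal (Cfsg.fittingOf H)

section Local

variable {X : Type u} [Group X] [Finite X]

theorem bg_sylow_full {p : ℕ} [Fact p.Prime] (S : Sylow p X) {x : X}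
    (hx : x ∈ Subgroup.centralizer ((S : Subgroup X) : Set X))
    (hxp : IsPGroup p (Subgroup.zpowers x)) : x ∈ (S : Subgroup X) := by
  have h1 : Subgroup.zpowers x ≤ Subgroup.normalizer ((S : Subgroup X) : Set X) := by
    rw [Subgroup.zpowers_le]
    exact Subgroup.centralizer_le_normalizer _ hx
  have h2 : IsPGroup p (Subgroup.zpowers x ⊔ (S : Subgroup X) : Subgroup X) :=
    IsPGroup.to_sup_of_normal_right' hxp S.isPGroup' h1
  have h3 := S.is_maximal' h2 le_sup_right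
  have h4 : Subgroup.zpowers x ≤ (S : Subgroup X) := by
    rw [← h3]
    exact le_sup_left
  exact h4 (Subgroup.mem_zpowers x)

theorem bg_le_pPrimeCore_of_sylow [Group.IsSolvable X] {p : ℕ} [Fact p.Prime] (hp2 : p ≠ 2)
    (S : Sylow p X) (Y : Subgroup X) (hY : (Nat.card Y).Coprime p)
    (hSY : (S : Subgroup X) ≤ Subgroup.normalizer (Y : Set X)) : Y ≤ Cfsg.pPrimeCore p X :=
  Cfsg.Agent.Lib.Helper23.le_pPrimeCore_of_full
    (Cfsg.Agent.Lib.Helper23.isPConstrained_of_isSolvable p)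
    (S : Subgroup X) Y S.isPGroup' (fun x hx hxp => bg_sylow_full S hx hxp)
    (fun h => absurd h hp2) hY hSY

end Local

variable {G : Type u} [Group G] [Finite G]

theorem bg_ZIn_ne_bot {p : ℕ} [Fact p.Prime] {P : Subgroup G} (hP : IsPGroup p P)
    (hP1 : P ≠ ⊥) : Cfsg.Agent.Lib.Helper54.ZIn P ≠ ⊥ := by
  haveI : Nontrivial ↥P := (Subgroup.nontrivial_iff_ne_bot P).mpr hP1
  have h1 := (Cfsg.Agent.S1466.result p hP).2.2.2.1
  rw [← Cfsg.Agent.Lib.Helper54.ZIn_eq_map]
  haveI : Nontrivial ↥(Cfsg.puigSubgroup ↥P) := (Subgroup.nontrivial_iff_ne_bot _).mpr h1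
  have h2 : IsPGroup p ↥(Cfsg.puigSubgroup ↥P) := hP.to_subgroup _
  have h3 : Nontrivial ↥(Subgroup.center ↥(Cfsg.puigSubgroup ↥P)) := h2.center_nontrivial
  intro h
  rw [Subgroup.map_eq_bot_iff_of_injective _ P.subtype_injective,
    Subgroup.map_eq_bot_iff_of_injective _ (Subgroup.subtype_injective _)] at h
  exact (Subgroup.nontrivial_iff_ne_bot _).mp h3 h

/-- If every `p'`-subgroup of `G` normalized by the Sylow `p`-subgroup `P` of the maximal
subgroup `M` lies in `M`, then `N_G(P) ≤ M`. -/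
theorem bg_normalizer_sylow_le (hG : Cfsg.IsMinSimpleOddOrder G) {M : Subgroup G}
    (hM : IsCoatom M) {p : ℕ} [Fact p.Prime] (hp2 : p ≠ 2) (S : Sylow p ↥M)
    (hS : (S : Subgroup ↥M) ≠ ⊥)
    (hinv : ∀ Y : Subgroup G, (Nat.card Y).Coprime p →
      (S : Subgroup ↥M).map M.subtype ≤ Subgroup.normalizer (Y : Set G) → Y ≤ M) :
    Subgroup.normalizer (((S : Subgroup ↥M).map M.subtype : Subgroup G) : Set G) ≤ M := by
  obtain ⟨hodd, hsimple, hnc, hsolv⟩ := hG
  haveI : Group.IsSolvable ↥M := hsolv M hM.1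
  have hoddM : Odd (Nat.card ↥M) := Odd.of_dvd_nat hodd (Subgroup.card_subgroup_dvd_card M)
  set P := (S : Subgroup ↥M).map M.subtype with hPdef
  have hP : IsPGroup p P := S.isPGroup'.map _
  have hP1 : P ≠ ⊥ := by
    intro h
    exact hS ((Subgroup.map_eq_bot_iff_of_injective _ M.subtype_injective).mp h)
  by_cases hK : Cfsg.pPrimeCore p ↥M = ⊥
  · have h1 := (Cfsg.Agent.S1469.result hoddM p hp2 S).2 hK
    rw [Cfsg.Agent.Lib.Helper54.ZIn_eq_map] at h1
    have h2 : (Cfsg.Agent.Lib.Helper54.ZIn (S : Subgroup ↥M)).map M.subtype =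
        Cfsg.Agent.Lib.Helper54.ZIn P :=
      Cfsg.Agent.Lib.Helper54.map_ZIn M.subtype (fun x _ y _ hxy => M.subtype_injective hxy)
    have h3 : M ≤ Subgroup.normalizer (Cfsg.Agent.Lib.Helper54.ZIn P : Set G) := by
      rw [← h2]
      exact Cfsg.Agent.Lib.Helper23.le_normalizer_map_subtype_of_normal _ h1
    have h4 : Cfsg.Agent.Lib.Helper54.ZIn P ≠ ⊥ := bg_ZIn_ne_bot hP hP1
    have h5 : Cfsg.Agent.Lib.Helper54.ZIn P ≤ M :=
      (Cfsg.Agent.Lib.Helper54.ZIn_le P).trans (Subgroup.map_subtype_le _)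
    have h6 := Cfsg.Agent.Lib.Helper23.normalizer_eq_of_isCoatom hsimple M hM _ h4 h5 h3
    intro n hn
    rw [← h6]
    exact Cfsg.Agent.Lib.Helper54.mem_normalizer_ZIn hn
  · set K := (Cfsg.pPrimeCore p ↥M).map M.subtype with hKdef
    have hK1 : K ≠ ⊥ := fun h =>
      hK ((Subgroup.map_eq_bot_iff_of_injective _ M.subtype_injective).mp h)
    have hKM : K ≤ M := Subgroup.map_subtype_le _
    have hMK : M ≤ Subgroup.normalizer (K : Set G) :=
      Cfsg.Agent.Lib.Helper23.le_normalizer_map_subtype_of_normal _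
        (Cfsg.Agent.Lib.Helper22.pPrimeCore_normal' p ↥M)
    have hNK := Cfsg.Agent.Lib.Helper23.normalizer_eq_of_isCoatom hsimple M hM K hK1 hKM hMK
    have hKc : (Nat.card K).Coprime p := by
      rw [hKdef, Subgroup.card_map_of_injective M.subtype_injective]
      exact Cfsg.Agent.Lib.Helper22.card_pPrimeCore_coprime p ↥M
    intro n hn
    rw [← hNK]
    apply bg_mem_normalizer_of_mapConj_le
    have hPn : P ≤ Subgroup.normalizer
        ((K.map (MulAut.conj n).toMonoidHom : Subgroup G) : Set G) := by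
      intro x hx
      apply bg_mem_normalizer_mapConj
      apply hMK
      have h1 := (Subgroup.mem_normalizer_iff.mp (Subgroup.inv_mem _ hn) x).mp hx
      rw [inv_inv] at h1
      exact (Subgroup.map_subtype_le _) h1
    have hKn : K.map (MulAut.conj n).toMonoidHom ≤ M :=
      hinv _ (by rw [Cfsg.Agent.Lib.Helper23.card_mapConj]; exact hKc) hPn
    have h7 : (K.map (MulAut.conj n).toMonoidHom).subgroupOf M ≤ Cfsg.pPrimeCore p ↥M := by
      apply bg_le_pPrimeCore_of_sylow hp2 S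
      · rw [Nat.card_congr (Subgroup.subgroupOfEquivOfLe hKn).toEquiv,
          Cfsg.Agent.Lib.Helper23.card_mapConj]
        exact hKc
      · intro s hs
        have hsP : (s : G) ∈ P := ⟨s, hs, rfl⟩
        have h8 := hPn hsP
        rw [Subgroup.mem_normalizer_iff] at h8 ⊢
        intro y
        rw [Subgroup.mem_subgroupOf, Subgroup.mem_subgroupOf]
        exact h8 (y : G)
    intro x hx
    have hxM : x ∈ M := hKn hx
    have h9 : (⟨x, hxM⟩ : ↥M) ∈ Cfsg.pPrimeCore p ↥M := h7 (Subgroup.mem_subgroupOf.mpr hx)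
    exact ⟨⟨x, hxM⟩, h9, rfl⟩

/-- **Bender–Glauberman Theorem 9.1**, conditional on Fitting uniqueness. -/
theorem bg_thm91 (hG : Cfsg.IsMinSimpleOddOrder G) (hFU : FittingUniq G)
    (M : Subgroup G) (hM : IsCoatom M) (p : ℕ) [Fact p.Prime] (B : Subgroup G) (hBM : B ≤ M)
    (hBe : Cfsg.IsElementaryAbelian p B) (hBnc : ¬ IsCyclic B)
    (h : (∀ b ∈ B, b ≠ 1 → Subgroup.centralizer ({b} : Set G) ≤ M) ∨
      ∀ Y ∈ Cfsg.invSubgroups ⊤ B (Cfsg.primesNotDvd p), Y ≤ M) :
    Cfsg.InUniqueMaximal B := by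
  have hG' := hG
  obtain ⟨hodd, hsimple, hnc, hsolv⟩ := hG
  have hp : p.Prime := Fact.out
  have hBp : IsPGroup p B := by
    intro x
    refine ⟨1, Subtype.ext ?_⟩
    rw [pow_one]
    simpa using hBe.2 x x.2
  have hB1 : B ≠ ⊥ := by
    intro hb
    apply hBnc
    rw [hb]
    exact isCyclic_of_subsingleton
  have hp2 : p ≠ 2 := by
    intro h2
    have hdvd : p ∣ Nat.card B := by
      obtain ⟨n, hn⟩ := IsPGroup.iff_card.mp hBp
      have hn0 : n ≠ 0 := by
        rintro rfl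
        rw [pow_zero] at hn
        exact hB1 (Subgroup.card_eq_one.mp hn)
      rw [hn]
      exact dvd_pow_self p hn0
    have h3 : p ∣ Nat.card G := hdvd.trans (Subgroup.card_subgroup_dvd_card B)
    rw [h2] at h3
    exact (Nat.not_even_iff_odd.mpr hodd) (even_iff_two_dvd.mpr h3)
  have hb' : ∀ Y : Subgroup G, (Nat.card Y).Coprime p →
      B ≤ Subgroup.normalizer (Y : Set G) → Y ≤ M := by
    intro Y hY hBY
    rcases h with ha | hb
    · apply Cfsg.Agent.Lib.Helper48.coprime_generation_le Y B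
        (fun x hx y hy => Cfsg.Agent.Lib.Helper23.isEA_comm hBe hx hy) hBe.2 hBnc ?_ hBY M
      · intro u hu hu1
        exact inf_le_right.trans (ha u hu hu1)
      · exact (Nat.Prime.coprime_iff_not_dvd hp).mp hY.symm
    · apply hb
      refine ⟨le_top, ?_, hBY⟩
      intro q hq hqY
      refine ⟨hq, fun hqp => ?_⟩
      have h1 : q ∣ Nat.gcd (Nat.card Y) p := Nat.dvd_gcd hqY hqp
      rw [Nat.Coprime.gcd_eq_one hY] at h1
      exact hq.one_lt.ne' (Nat.dvd_one.mp h1)
  refine ⟨M, ⟨hM, hBM⟩, ?_⟩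
  rintro H₀ ⟨hH₀, hBH₀⟩
  by_contra hne
  haveI : Nonempty {H : Subgroup G // IsCoatom H ∧ B ≤ H ∧ H ≠ M} := ⟨⟨H₀, hH₀, hBH₀, hne⟩⟩
  obtain ⟨⟨H, hH, hBH, hHM⟩, hmax⟩ := Finite.exists_max
    (fun t : {H : Subgroup G // IsCoatom H ∧ B ≤ H ∧ H ≠ M} =>
      (Nat.card ↥(t.1 ⊓ M)).factorization p)
  obtain ⟨R, hBR, hR⟩ := exists_isSylIn_ge hBp (le_inf hBH hBM)
  have hRH : R ≤ H := hR.1.trans inf_le_left
  have hRM : R ≤ M := hR.1.trans inf_le_right
  have hR1 : R ≠ ⊥ := fun h0 => hB1 (le_bot_iff.mp (h0 ▸ hBR))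
  obtain ⟨P, hRP, hP⟩ := exists_isSylIn_ge hR.2.1 hRM
  obtain ⟨S, hS⟩ := hP.exists_sylow
  have hS1 : (S : Subgroup ↥M) ≠ ⊥ := by
    intro h0
    rw [h0, Subgroup.map_bot] at hS
    exact hR1 (le_bot_iff.mp (hS ▸ hRP))
  have hNP : Subgroup.normalizer (P : Set G) ≤ M := by
    rw [← hS]
    apply bg_normalizer_sylow_le hG' hM hp2 S hS1
    intro Y hY hPY
    rw [hS] at hPY
    exact hb' Y hY ((hBR.trans hRP).trans hPY)
  have hNR : Subgroup.normalizer (R : Set G) ≤ M := by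
    by_cases hRP' : R = P
    · rw [hRP']
      exact hNP
    · have hlt : R < P := lt_of_le_of_ne hRP hRP'
      have hlt2 := Cfsg.Agent.Lib.Helper23.lt_inf_normalizer_of_pGroup hP.2.1 hlt
      have hRtop : R ≠ ⊤ := fun h0 => hM.1 (top_le_iff.mp (h0 ▸ hRM))
      obtain ⟨D, hD, hND⟩ := bg_exists_isCoatom_ge (bg_normalizer_ne_top hsimple hR1 hRtop)
      by_cases hDM : D = M
      · rw [← hDM]
        exact hND
      · exfalso
        have hBD : B ≤ D := hBR.trans (Subgroup.le_normalizer.trans hND)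
        have h1 : (Nat.card ↥(D ⊓ M)).factorization p ≤ (Nat.card ↥(H ⊓ M)).factorization p :=
          hmax ⟨D, hD, hBD, hDM⟩
        have hQ : IsPGroup p (P ⊓ Subgroup.normalizer (R : Set G) : Subgroup G) :=
          hP.2.1.to_le inf_le_left
        have hQle : P ⊓ Subgroup.normalizer (R : Set G) ≤ D ⊓ M :=
          le_inf (inf_le_right.trans hND) (inf_le_left.trans hP.1)
        obtain ⟨Q', hQQ', hQ'⟩ := exists_isSylIn_ge hQ hQle
        have h2 : Nat.card R < Nat.card Q' := by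
          by_contra hc
          push Not at hc
          exact hlt2.ne (Subgroup.eq_of_le_of_card_ge hlt2.le
            ((Subgroup.card_le_of_le hQQ').trans hc))
        rw [hR.card, hQ'.card] at h2
        have h3 := (Nat.pow_lt_pow_iff_right hp.one_lt).mp h2
        exact absurd h1 (not_le.mpr h3)
  have hRsH : IsSylIn p R H := by
    refine ⟨hRH, hR.2.1, ?_⟩
    intro Q hQ hRQ hQH
    by_contra hQR
    have hlt : R < Q := lt_of_le_of_ne hRQ (Ne.symm hQR)
    have hlt2 := Cfsg.Agent.Lib.Helper23.lt_inf_normalizer_of_pGroup hQ hlt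
    have h1 := hR.2.2 (Q ⊓ Subgroup.normalizer (R : Set G)) (hQ.to_le inf_le_left) hlt2.le
      (le_inf (inf_le_left.trans hQH) (inf_le_right.trans hNR))
    exact hlt2.ne h1.symm
  have hFM : Cfsg.fittingOf H ≤ M := by
    apply Cfsg.Agent.Lib.Helper23.le_of_pElements
    intro r hr hrdvd x hx hxr
    haveI : Fact r.Prime := ⟨hr⟩
    obtain ⟨Pr, hPr⟩ := Cfsg.Agent.Lib.Helper23.exists_isRPart (Cfsg.fittingOf H)
      (Cfsg.Agent.Lib.Helper23.fittingOf_isNilpotent H) r
    have hxPr : x ∈ Pr := hPr.2.2 x hx hxr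
    have hHPr : H ≤ Subgroup.normalizer (Pr : Set G) :=
      (Cfsg.Agent.Lib.Helper23.le_normalizer_fittingOf H).trans hPr.normalizer_le
    by_cases hrp : r = p
    · subst hrp
      exact hRM (hRsH.le_of_normalized hPr.2.1
        (hPr.1.trans (Cfsg.Agent.Lib.Helper23.fittingOf_le H)) (hRH.trans hHPr) hxPr)
    · apply hb' Pr _ (hBH.trans hHPr) hxPr
      obtain ⟨n, hn⟩ := IsPGroup.iff_card.mp hPr.2.1
      rw [hn]
      exact Nat.Coprime.pow_left n ((Nat.coprime_primes hr hp).mpr hrp)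
  haveI : Group.IsSolvable ↥H := hsolv H hH.1
  have hoddH : Odd (Nat.card ↥H) := Odd.of_dvd_nat hodd (Subgroup.card_subgroup_dvd_card H)
  by_cases hr : Cfsg.RankLE 2 (Cfsg.fittingSubgroup ↥H)
  · have hnil := (Cfsg.Agent.S1451.result hoddH (Or.inr hr)).1
    have hcomm : commutator ↥H ≤ Cfsg.fittingSubgroup ↥H := le_sSup ⟨inferInstance, hnil⟩
    have hNH : Cfsg.fittingOf H ⊔ R ≤ H := sup_le (Cfsg.Agent.Lib.Helper23.fittingOf_le H) hRH
    have hNM : Cfsg.fittingOf H ⊔ R ≤ M := sup_le hFM hRM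
    have hHN : H ≤ Subgroup.normalizer ((Cfsg.fittingOf H ⊔ R : Subgroup G) : Set G) := by
      intro h hh
      apply bg_mem_normalizer_of_mapConj_le
      intro y hy
      rw [Cfsg.Agent.Lib.Helper23.mem_mapConj] at hy
      have hzH : h⁻¹ * y * h ∈ H := hNH hy
      have hc : h * (h⁻¹ * y * h) * h⁻¹ * (h⁻¹ * y * h)⁻¹ ∈ Cfsg.fittingOf H := by
        refine ⟨⁅(⟨h, hh⟩ : ↥H), ⟨h⁻¹ * y * h, hzH⟩⁆, hcomm ?_, rfl⟩
        rw [commutator_def]
        exact Subgroup.commutator_mem_commutator (Subgroup.mem_top _) (Subgroup.mem_top _)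
      have e : y = (h * (h⁻¹ * y * h) * h⁻¹ * (h⁻¹ * y * h)⁻¹) * (h⁻¹ * y * h) := by group
      rw [e]
      exact Subgroup.mul_mem _ ((le_sup_left : Cfsg.fittingOf H ≤ Cfsg.fittingOf H ⊔ R) hc) hy
    have hRN : IsSylIn p R (Cfsg.fittingOf H ⊔ R) := hRsH.mono le_sup_right hNH
    have hHleM : H ≤ M := by
      intro h hh
      obtain ⟨n, hn, hnh⟩ := bg_frattini hRN (hHN hh)
      have e : h = n * (n⁻¹ * h) := by group
      rw [e]
      exact M.mul_mem (hNM hn) (hNR hnh)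
    exact hHM (bg_le_of_isCoatom hH hM hHleM)
  · unfold Cfsg.RankLE at hr
    push Not at hr
    obtain ⟨q, hq, hqr⟩ := hr
    have hqr' : ¬ Cfsg.PRankLE q 2 ↥(Cfsg.fittingOf H) := by
      intro hc
      apply hqr
      exact bg_pRankLE_of_injective
        ((Cfsg.fittingSubgroup ↥H).equivMapOfInjective H.subtype H.subtype_injective).toMonoidHom
        (MulEquiv.injective _) hc
    have hU := hFU H hH q hq hqr'
    exact hHM (bg_unique_eq hU hH (Cfsg.Agent.Lib.Helper23.fittingOf_le H) hM hFM)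

end Cfsg.Agent.Lib.Helper61
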