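import Mathlib
import Cfsg.Agent.Lib.Helper61.BG9b
import Cfsg.Agent.Lib.Helper61.Norm
import Cfsg.Agent.Lib.Helper20.PGroupOdd
import Cfsg.Agent.S1452

/-!
The Uniqueness Theorem chain (Bender–Glauberman Section 9): Corollaries 9.2, 9.3, Lemma 9.4,
Theorem 9.6, each conditional on the earlier statements — helper61.
-/

set_option autoImplicit false

namespace Cfsg.Agent.Lib.Helper61

open Cfsg
open scoped Pointwise

universe u

/-- Statement of BG Theorem 8.1 (S1397) for the group `G`. -/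
def BG81 (G : Type u) [Group G] [Finite G] : Prop :=
  ∀ (M : Subgroup G), IsCoatom M → ∀ (p : ℕ) [Fact p.Prime] (A₀ : Subgroup G),
    A₀ ≤ Cfsg.fittingOf M → Cfsg.IsElementaryAbelian p A₀ → p ^ 3 ≤ Nat.card A₀ →
    (∀ B : Subgroup G, B ≤ Cfsg.fittingOf M → Cfsg.IsElementaryAbelian p B → A₀ ≤ B → B = A₀) →
    (¬ IsPGroup p ↥(Cfsg.fittingOf M) →
        Cfsg.InUniqueMaximal (Cfsg.fittingOf M ⊓ Subgroup.centralizer (A₀ : Set G))) ∧
      (IsPGroup p ↥(Cfsg.fittingOf M) → ∀ P : Sylow p M,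
        ¬ p ∣ ((P : Subgroup M).map M.subtype).index ∧
        ∀ A : Subgroup G, Cfsg.IsSCN ((P : Subgroup M).map M.subtype) A →
          ¬ Cfsg.PRankLE p 2 ↥A → A ≤ Cfsg.fittingOf M ∧ Cfsg.InUniqueMaximal A)

/-- Statement of BG Theorem 9.1 (S1398) for the group `G`. -/
def BG91 (G : Type u) [Group G] : Prop :=
  ∀ (M : Subgroup G), IsCoatom M → ∀ (p : ℕ) [Fact p.Prime] (B : Subgroup G), B ≤ M →
    Cfsg.IsElementaryAbelian p B → ¬ IsCyclic B →
    ((∀ b ∈ B, b ≠ 1 → Subgroup.centralizer ({b} : Set G) ≤ M) ∨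
      ∀ Y ∈ Cfsg.invSubgroups ⊤ B (Cfsg.primesNotDvd p), Y ≤ M) → Cfsg.InUniqueMaximal B

/-- Statement of BG Corollary 9.2 (S1399) for the group `G`. -/
def BG92 (G : Type u) [Group G] : Prop :=
  ∀ (L K : Subgroup G), Cfsg.InUniqueMaximal L → K ≤ Subgroup.centralizer (L : Set G) →
    ¬ Cfsg.RankLE 1 K → Cfsg.InUniqueMaximal K

/-- Statement of BG Corollary 9.3 (S1400) for the group `G`. -/
def BG93 (G : Type u) [Group G] : Prop :=
  ∀ (p : ℕ) [Fact p.Prime] (A B : Subgroup G), IsPGroup p A → IsMulCommutative A →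
    ¬ Cfsg.PRankLE p 2 ↥A → Cfsg.InUniqueMaximal A → IsPGroup p B → ¬ IsCyclic B →
    ¬ Cfsg.PRankLE p 2 ↥(Subgroup.centralizer (B : Set G)) → Cfsg.InUniqueMaximal B

/-- Statement of BG Lemma 9.5 (S1402) for the group `G`. -/
def BG95 (G : Type u) [Group G] : Prop :=
  ∀ (p : ℕ) [Fact p.Prime] (P : Sylow p G) (A : Subgroup G), Cfsg.IsSCN (P : Subgroup G) A →
    ¬ Cfsg.PRankLE p 2 ↥A → Cfsg.InUniqueMaximal A

/-- Statement of BG Theorem 9.6 (S1403) for the group `G`. -/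
def BG96 (G : Type u) [Group G] : Prop :=
  ∀ (K : Subgroup G), K ≠ ⊤ → ¬ Cfsg.RankLE 1 K →
    (¬ Cfsg.RankLE 2 K ∨ ¬ Cfsg.RankLE 2 (Subgroup.centralizer (K : Set G))) →
    Cfsg.InUniqueMaximal K

section General

variable {G : Type u} [Group G]

theorem bg_isEA_of_forall {p : ℕ} {A : Subgroup G} (hc : ∀ a ∈ A, ∀ b ∈ A, a * b = b * a)
    (he : ∀ a ∈ A, a ^ p = 1) : IsElementaryAbelian p A :=
  ⟨⟨⟨fun a b => Subtype.ext (hc a a.2 b b.2)⟩⟩, he⟩

theorem bg_isPGroup_of_isEA {p : ℕ} {A : Subgroup G} (hA : IsElementaryAbelian p A) :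
    IsPGroup p A := by
  intro x
  refine ⟨1, Subtype.ext ?_⟩
  rw [pow_one]
  simpa using hA.2 x x.2

theorem bg_isEA_map {G' : Type*} [Group G'] {p : ℕ} {E : Subgroup G}
    (hE : IsElementaryAbelian p E) (f : G →* G') : IsElementaryAbelian p (E.map f) := by
  apply bg_isEA_of_forall
  · rintro _ ⟨a, ha, rfl⟩ _ ⟨b, hb, rfl⟩
    rw [← map_mul, ← map_mul, Cfsg.Agent.Lib.Helper23.isEA_comm hE ha hb]
  · rintro _ ⟨a, ha, rfl⟩
    rw [← map_pow, hE.2 a ha, map_one]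

theorem bg_isEA_zpowers {p : ℕ} {z : G} (hz : z ^ p = 1) :
    IsElementaryAbelian p (Subgroup.zpowers z) := by
  apply bg_isEA_of_forall
  · intro a ha b hb
    obtain ⟨i, rfl⟩ := Subgroup.mem_zpowers_iff.mp ha
    obtain ⟨j, rfl⟩ := Subgroup.mem_zpowers_iff.mp hb
    exact (Commute.zpow_zpow_self z i j).eq
  · intro a ha
    obtain ⟨i, rfl⟩ := Subgroup.mem_zpowers_iff.mp ha
    rw [← zpow_natCast, ← zpow_mul, mul_comm, zpow_mul, zpow_natCast, hz, one_zpow]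

theorem bg_not_pRankLE_of_EA {p k : ℕ} {D C : Subgroup G} (hD : IsElementaryAbelian p D)
    (hDC : D ≤ C) (hcard : p ^ k < Nat.card D) : ¬ PRankLE p k ↥C := by
  intro h
  have h1 := (Cfsg.Agent.Lib.Helper24.pRankLE_subgroup_iff p k C).mp h D hDC
    (fun a ha b hb => Cfsg.Agent.Lib.Helper23.isEA_comm hD ha hb) hD.2
  omega

theorem bg_exists_EA_of_not_pRankLE {p k : ℕ} {C : Subgroup G} (h : ¬ PRankLE p k ↥C) :
    ∃ D : Subgroup G, IsElementaryAbelian p D ∧ D ≤ C ∧ p ^ k < Nat.card D := by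
  by_contra hc
  push Not at hc
  apply h
  rw [Cfsg.Agent.Lib.Helper24.pRankLE_subgroup_iff]
  intro A hAC hcomm hexp
  exact hc A (bg_isEA_of_forall hcomm hexp) hAC

theorem bg_not_rankLE_one {p : ℕ} (hp : p.Prime) {D K : Subgroup G}
    (hD : IsElementaryAbelian p D) (hDK : D ≤ K) (hcard : p < Nat.card D) : ¬ RankLE 1 ↥K :=
  fun h => bg_not_pRankLE_of_EA hD hDK (by rwa [pow_one]) (h p hp)

theorem bg_pRankLE_one_of_isCyclic {X : Type*} [Group X] [Finite X] [IsCyclic X] {p : ℕ}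
    (hp : p.Prime) : PRankLE p 1 X := by
  intro D _ hDe
  obtain ⟨g, hg⟩ := IsCyclic.exists_generator (α := ↥D)
  have h1 : orderOf g = Nat.card D := orderOf_eq_card_of_forall_mem_zpowers hg
  have h2 : g ^ p = 1 := Subtype.ext (by simpa using hDe g g.2)
  have h3 : orderOf g ≤ p := Nat.le_of_dvd hp.pos (orderOf_dvd_of_pow_eq_one h2)
  rw [pow_one]
  omega

theorem bg_not_isCyclic_of_EA [Finite G] {p : ℕ} (hp : p.Prime) {D : Subgroup G}
    (hD : IsElementaryAbelian p D) (hcard : p < Nat.card D) : ¬ IsCyclic ↥D := by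
  intro hcyc
  have h1 := bg_pRankLE_one_of_isCyclic (X := ↥D) hp
  exact bg_not_pRankLE_of_EA hD le_rfl (by rwa [pow_one]) h1

theorem bg_not_isCyclic_of_not_pRankLE [Finite G] {p : ℕ} (hp : p.Prime) {A : Subgroup G}
    (hA : ¬ PRankLE p 2 ↥A) : ¬ IsCyclic ↥A := by
  intro hcyc
  apply hA
  have h1 := bg_pRankLE_one_of_isCyclic (X := ↥A) hp
  intro D hDc hDe
  have h2 := h1 D hDc hDe
  have h3 : p ^ 1 ≤ p ^ 2 := Nat.pow_le_pow_right hp.pos (by norm_num)
  omega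

theorem bg_prime_ne_two [Finite G] (hodd : Odd (Nat.card G)) {p : ℕ} [Fact p.Prime] {A : Subgroup G}
    (hA : IsPGroup p A) (hA1 : 1 < Nat.card A) : p ≠ 2 := by
  intro h2
  obtain ⟨n, hn⟩ := IsPGroup.iff_card.mp hA
  have hn0 : n ≠ 0 := by
    rintro rfl
    rw [pow_zero] at hn
    omega
  have h3 : p ∣ Nat.card G :=
    ((dvd_pow_self p hn0).trans (dvd_of_eq hn.symm)).trans (Subgroup.card_subgroup_dvd_card A)
  rw [h2] at h3
  exact (Nat.not_even_iff_odd.mpr hodd) (even_iff_two_dvd.mpr h3)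

theorem bg_isSCN_comm {P A : Subgroup G} (h : IsSCN P A) :
    ∀ a ∈ A, ∀ b ∈ A, a * b = b * a := by
  intro a ha b hb
  have h1 : b ∈ P ⊓ Subgroup.centralizer (A : Set G) := by
    rw [h.2.2]
    exact hb
  exact Subgroup.mem_centralizer_iff.mp h1.2 a ha

theorem bg_map_inf_centralizer {P : Subgroup G} (U : Subgroup ↥P) {D : Subgroup G}
    (hD : D ≤ P) :
    (D.subgroupOf P ⊓ Subgroup.centralizer (U : Set ↥P)).map P.subtype =
      D ⊓ Subgroup.centralizer ((U.map P.subtype : Subgroup G) : Set G) := by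
  ext x
  constructor
  · rintro ⟨y, hy, rfl⟩
    obtain ⟨hyD, hyC⟩ := Subgroup.mem_inf.mp hy
    refine Subgroup.mem_inf.mpr ⟨Subgroup.mem_subgroupOf.mp hyD, ?_⟩
    rw [Subgroup.mem_centralizer_iff]
    rintro _ ⟨u, hu, rfl⟩
    exact congrArg Subtype.val (Subgroup.mem_centralizer_iff.mp hyC u hu)
  · intro hx
    obtain ⟨hxD, hxC⟩ := Subgroup.mem_inf.mp hx
    refine ⟨⟨x, hD hxD⟩, Subgroup.mem_inf.mpr ⟨Subgroup.mem_subgroupOf.mpr hxD, ?_⟩, rfl⟩
    rw [Subgroup.mem_centralizer_iff]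
    intro u hu
    exact Subtype.ext (Subgroup.mem_centralizer_iff.mp hxC (u : G) ⟨u, hu, rfl⟩)

theorem bg_card_inf_centralizer {P : Subgroup G} (U : Subgroup ↥P) {D : Subgroup G}
    (hD : D ≤ P) :
    Nat.card ↥(D.subgroupOf P ⊓ Subgroup.centralizer (U : Set ↥P)) =
      Nat.card ↥(D ⊓ Subgroup.centralizer ((U.map P.subtype : Subgroup G) : Set G)) := by
  rw [← bg_map_inf_centralizer U hD, Subgroup.card_map_of_injective P.subtype_injective]

variable [Finite G]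

/-- A `p`-subgroup of rank at least 3 has an elementary abelian subgroup `V` of order `p ^ 2`
whose centralizer has index at most `p` in every subgroup. -/
theorem bg_exists_EA_sq {p : ℕ} [Fact p.Prime] {P : Subgroup G} (hP : IsPGroup p P)
    (hrk : ¬ PRankLE p 2 ↥P) :
    ∃ V : Subgroup G, V ≤ P ∧ IsElementaryAbelian p V ∧ Nat.card V = p ^ 2 ∧
      ∀ D : Subgroup G, D ≤ P →
        Nat.card D ∣ p * Nat.card ↥(D ⊓ Subgroup.centralizer (V : Set G)) := by
  obtain ⟨U, -, hUe, hU2, hUd⟩ := Cfsg.Agent.Lib.Helper23.exists_normal_EA_sq p hP hrk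
  refine ⟨U.map P.subtype, Subgroup.map_subtype_le _, bg_isEA_map hUe _, ?_, ?_⟩
  · rw [Subgroup.card_map_of_injective P.subtype_injective, hU2]
  · intro D hD
    have h1 := hUd (D.subgroupOf P)
    rwa [bg_card_inf_centralizer U hD,
      Nat.card_congr (Subgroup.subgroupOfEquivOfLe hD).toEquiv] at h1

/-- A noncyclic `p`-subgroup, `p` odd, has rank at least 2. -/
theorem bg_not_rankLE_one_of_not_isCyclic {p : ℕ} [Fact p.Prime] (hp2 : p ≠ 2) {B : Subgroup G}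
    (hB : IsPGroup p B) (hnc : ¬ IsCyclic ↥B) : ¬ RankLE 1 ↥B := by
  have hp : p.Prime := Fact.out
  obtain ⟨z₀, x, hz₀c, hz₀o, hxp, hxz, -⟩ :=
    Cfsg.Agent.Lib.Helper20.exists_normal_rank_two hp2 hB hnc
  have hz₀p : z₀ ^ p = 1 := by rw [← hz₀o]; exact pow_orderOf_eq_one z₀
  intro h
  have h1 := h p hp
  have hcomm : ∀ a ∈ Subgroup.zpowers z₀, ∀ b ∈ Subgroup.zpowers x, a * b = b * a := by
    intro a ha b _
    have hac : a ∈ Subgroup.center ↥B := by
      obtain ⟨i, rfl⟩ := Subgroup.mem_zpowers_iff.mp ha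
      exact Subgroup.zpow_mem _ hz₀c i
    exact (Subgroup.mem_center_iff.mp hac b).symm
  have hEA := Cfsg.Agent.Lib.Helper23.isEA_sup (bg_isEA_zpowers hz₀p) (bg_isEA_zpowers hxp) hcomm
  have h2 := h1 _ hEA.1 hEA.2
  rw [pow_one] at h2
  have h3 : Nat.card ↥(Subgroup.zpowers z₀) = p := by rw [Nat.card_zpowers, hz₀o]
  have h4 : Subgroup.zpowers z₀ = Subgroup.zpowers z₀ ⊔ Subgroup.zpowers x :=
    Subgroup.eq_of_le_of_card_ge le_sup_left (by rw [h3]; exact h2)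
  apply hxz
  rw [h4]
  exact (le_sup_right : Subgroup.zpowers x ≤ _) (Subgroup.mem_zpowers x)

end General

end Cfsg.Agent.Lib.Helper61
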