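import Mathlib
import Cfsg.Agent.Lib.Helper61.BG9c

/-!
The Uniqueness Theorem chain (Bender–Glauberman Section 9): Fitting uniqueness from 8.1,
Corollaries 9.2, 9.3, Lemma 9.4, Theorem 9.6 — helper61.
-/

set_option autoImplicit false

namespace Cfsg.Agent.Lib.Helper61

open Cfsg
open scoped Pointwise

universe u

variable {G : Type u} [Group G] [Finite G]

/-- A `p`-subgroup of rank at least 3 (`p` odd) has a self-centralizing normal subgroup of rank at
least 3. -/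
theorem bg_exists_scn3 {p : ℕ} [Fact p.Prime] (hp2 : p ≠ 2) {P : Subgroup G} (hP : IsPGroup p P)
    (hrk : ¬ PRankLE p 2 ↥P) : ∃ A : Subgroup G, IsSCN P A ∧ ¬ PRankLE p 2 ↥A := by
  obtain ⟨U, hUn, hUe, hU2, -⟩ := Cfsg.Agent.Lib.Helper23.exists_normal_EA_sq p hP hrk
  haveI := hUn
  obtain ⟨A, -, hAn, hAc, hA3⟩ := Cfsg.Agent.S1452.result p hp2 hP hrk U hUe hU2
  refine ⟨A.map P.subtype, ⟨Subgroup.map_subtype_le _,
    Cfsg.Agent.Lib.Helper23.le_normalizer_map_subtype_of_normal _ hAn, ?_⟩, ?_⟩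
  · ext x
    constructor
    · intro hx
      obtain ⟨hxP, hxC⟩ := Subgroup.mem_inf.mp hx
      have h1 : (⟨x, hxP⟩ : ↥P) ∈ Subgroup.centralizer (A : Set ↥P) := by
        rw [Subgroup.mem_centralizer_iff]
        intro a ha
        exact Subtype.ext (Subgroup.mem_centralizer_iff.mp hxC (a : G) ⟨a, ha, rfl⟩)
      rw [hAc] at h1
      exact ⟨⟨x, hxP⟩, h1, rfl⟩
    · rintro ⟨a, ha, rfl⟩
      refine Subgroup.mem_inf.mpr ⟨a.2, ?_⟩
      rw [Subgroup.mem_centralizer_iff]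
      rintro _ ⟨b, hb, rfl⟩
      have h1 : a ∈ Subgroup.centralizer (A : Set ↥P) := by rw [hAc]; exact ha
      exact congrArg Subtype.val (Subgroup.mem_centralizer_iff.mp h1 b hb)
  · intro h
    exact hA3 (bg_pRankLE_of_injective
      (A.equivMapOfInjective P.subtype P.subtype_injective).toMonoidHom (MulEquiv.injective _) h)

/-- The common core of the applications of BG Theorem 8.1. -/
theorem bg_81_core (hG : IsMinSimpleOddOrder G) (h81 : BG81 G) (M : Subgroup G)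
    (hM : IsCoatom M) (p : ℕ) [Fact p.Prime] (hF : ¬ PRankLE p 2 ↥(fittingOf M)) :
    (∃ A₀ : Subgroup G, A₀ ≤ fittingOf M ∧ IsElementaryAbelian p A₀ ∧ p ^ 2 < Nat.card A₀ ∧
        InUniqueMaximal (fittingOf M ⊓ Subgroup.centralizer (A₀ : Set G))) ∨
    (∃ A' : Subgroup G, A' ≤ fittingOf M ∧ IsPGroup p A' ∧
        (∀ a ∈ A', ∀ b ∈ A', a * b = b * a) ∧ ¬ PRankLE p 2 ↥A' ∧ InUniqueMaximal A') := by
  obtain ⟨hodd, hsimple, hnc, hsolv⟩ := hG
  have hp : p.Prime := Fact.out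
  obtain ⟨D, hDe, hDF, hDc⟩ := bg_exists_EA_of_not_pRankLE hF
  haveI : Nonempty {B : Subgroup G // B ≤ fittingOf M ∧ IsElementaryAbelian p B ∧ D ≤ B} :=
    ⟨⟨D, hDF, hDe, le_rfl⟩⟩
  obtain ⟨⟨A₀, hA₀F, hA₀e, hDA₀⟩, hmax⟩ := Finite.exists_max
    (fun t : {B : Subgroup G // B ≤ fittingOf M ∧ IsElementaryAbelian p B ∧ D ≤ B} =>
      Nat.card ↥t.1)
  have hA₀c : p ^ 2 < Nat.card A₀ := lt_of_lt_of_le hDc (Subgroup.card_le_of_le hDA₀)
  have hA₀3 : p ^ 3 ≤ Nat.card A₀ := by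
    obtain ⟨n, hn⟩ := IsPGroup.iff_card.mp (bg_isPGroup_of_isEA hA₀e)
    rw [hn] at hA₀c ⊢
    have h2 : 2 < n := (Nat.pow_lt_pow_iff_right hp.one_lt).mp hA₀c
    exact Nat.pow_le_pow_right hp.pos h2
  have hA₀max : ∀ B : Subgroup G, B ≤ fittingOf M → IsElementaryAbelian p B → A₀ ≤ B →
      B = A₀ := by
    intro B hBF hBe hAB
    have h1 : Nat.card B ≤ Nat.card A₀ := hmax ⟨B, hBF, hBe, hDA₀.trans hAB⟩
    exact (Subgroup.eq_of_le_of_card_ge hAB h1).symm
  obtain ⟨h1, h2⟩ := h81 M hM p A₀ hA₀F hA₀e hA₀3 hA₀max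
  by_cases hFp : IsPGroup p ↥(fittingOf M)
  · right
    obtain ⟨P⟩ : Nonempty (Sylow p ↥M) := inferInstance
    obtain ⟨-, h3⟩ := h2 hFp P
    have hPGp : IsPGroup p ((P : Subgroup ↥M).map M.subtype) := P.isPGroup'.map _
    have hFP : fittingOf M ≤ (P : Subgroup ↥M).map M.subtype :=
      (isSylIn_of_sylow M P).le_of_normalized hFp (Cfsg.Agent.Lib.Helper23.fittingOf_le M)
        ((Subgroup.map_subtype_le _).trans (Cfsg.Agent.Lib.Helper23.le_normalizer_fittingOf M))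
    have hrk : ¬ PRankLE p 2 ↥((P : Subgroup ↥M).map M.subtype) :=
      bg_not_pRankLE_of_EA hA₀e (hA₀F.trans hFP) hA₀c
    have hp2 : p ≠ 2 := bg_prime_ne_two hodd (bg_isPGroup_of_isEA hA₀e)
      (lt_trans (Nat.one_lt_pow (by norm_num) hp.one_lt) hA₀c)
    obtain ⟨A', hA'scn, hA'3⟩ := bg_exists_scn3 hp2 hPGp hrk
    obtain ⟨hA'F, hA'U⟩ := h3 A' hA'scn hA'3
    exact ⟨A', hA'F, hPGp.to_le hA'scn.1, bg_isSCN_comm hA'scn, hA'3, hA'U⟩
  · left
    exact ⟨A₀, hA₀F, hA₀e, hA₀c, h1 hFp⟩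

/-- Fitting uniqueness follows from BG Theorem 8.1. -/
theorem bg_fittingUniq (hG : IsMinSimpleOddOrder G) (h81 : BG81 G) : FittingUniq G := by
  intro H hH q hq hqr
  haveI : Fact q.Prime := ⟨hq⟩
  rcases bg_81_core hG h81 H hH q hqr with ⟨A₀, -, -, -, hU⟩ | ⟨A', hA'F, -, -, -, hU⟩
  · exact bg_unique_of_le hU inf_le_left hH (Cfsg.Agent.Lib.Helper23.fittingOf_le H)
  · exact bg_unique_of_le hU hA'F hH (Cfsg.Agent.Lib.Helper23.fittingOf_le H)

/-- BG Theorem 9.1 from Theorem 8.1. -/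
theorem bg_thm91' (hG : IsMinSimpleOddOrder G) (h81 : BG81 G) : BG91 G :=
  fun M hM p _ B hBM hBe hBnc h =>
    bg_thm91 hG (bg_fittingUniq hG h81) M hM p B hBM hBe hBnc h

/-- BG Corollary 9.2 from Theorem 9.1. -/
theorem bg_cor92 (hG : IsMinSimpleOddOrder G) (h91 : BG91 G) : BG92 G := by
  intro L K hL hK hKr
  obtain ⟨hodd, hsimple, hnc, hsolv⟩ := hG
  obtain ⟨M, ⟨hM, hLM⟩, huniq⟩ := hL
  have hL1 : L ≠ ⊥ := by
    rintro rfl
    apply hnc
    obtain ⟨g, hg⟩ : ∃ g : G, g ∉ M := by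
      by_contra hc
      push Not at hc
      exact hM.1 (eq_top_iff.mpr fun x _ => hc x)
    have hz : Subgroup.zpowers g = ⊤ := by
      by_contra hne
      obtain ⟨M', hM', hle⟩ := bg_exists_isCoatom_ge hne
      have h1 := huniq M' ⟨hM', bot_le⟩
      rw [h1] at hle
      exact hg (hle (Subgroup.mem_zpowers g))
    refine ⟨⟨fun a b => ?_⟩⟩
    have ha : a ∈ Subgroup.zpowers g := by rw [hz]; exact Subgroup.mem_top a
    have hb : b ∈ Subgroup.zpowers g := by rw [hz]; exact Subgroup.mem_top b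
    obtain ⟨i, rfl⟩ := Subgroup.mem_zpowers_iff.mp ha
    obtain ⟨j, rfl⟩ := Subgroup.mem_zpowers_iff.mp hb
    exact (Commute.zpow_zpow_self g i j).eq
  have hKtop : K ≠ ⊤ := by
    intro h
    rw [h] at hK
    exact bg_centralizer_ne_top hsimple hnc hL1 (top_le_iff.mp hK)
  unfold RankLE at hKr
  push Not at hKr
  obtain ⟨p, hp, hpr⟩ := hKr
  haveI : Fact p.Prime := ⟨hp⟩
  obtain ⟨B, hBe, hBK, hBc⟩ := bg_exists_EA_of_not_pRankLE hpr
  rw [pow_one] at hBc
  have hBnc := bg_not_isCyclic_of_EA hp hBe hBc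
  have hC : ∀ b ∈ B, b ≠ 1 → Subgroup.centralizer ({b} : Set G) ≤ M := by
    intro b hb hb1
    have hne : Subgroup.centralizer ({b} : Set G) ≠ ⊤ := by
      intro htop
      have h1 : Subgroup.zpowers b ≠ ⊥ := fun h => hb1 (Subgroup.zpowers_eq_bot.mp h)
      apply bg_centralizer_ne_top hsimple hnc h1
      rw [eq_top_iff, ← htop]
      exact centralizer_singleton_le_centralizer_zpowers b
    obtain ⟨M', hM', hle⟩ := bg_exists_isCoatom_ge hne
    have hLM' : L ≤ M' := by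
      refine le_trans ?_ hle
      intro l hl
      rw [Subgroup.mem_centralizer_iff]
      intro y hy
      rw [Set.mem_singleton_iff] at hy
      subst hy
      exact (Subgroup.mem_centralizer_iff.mp (hK (hBK hb)) l hl).symm
    rw [← huniq M' ⟨hM', hLM'⟩]
    exact hle
  have hBM : B ≤ M := by
    intro b hb
    by_cases hb1 : b = 1
    · rw [hb1]
      exact M.one_mem
    · exact hC b hb hb1 (Subgroup.mem_centralizer_singleton_iff.mpr rfl)
  have hBU := h91 M hM p B hBM hBe hBnc (Or.inl hC)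
  exact bg_unique_of_le' hBU hBK hKtop

/-- BG Corollary 9.3 from Corollary 9.2. -/
theorem bg_cor93 (hG : IsMinSimpleOddOrder G) (h92 : BG92 G) : BG93 G := by
  intro p _ A B hAp hAc hA3 hAU hBp hBnc hB3
  have hp : p.Prime := Fact.out
  have hpp : p < p ^ 2 := by
    have := hp.one_lt
    nlinarith
  obtain ⟨hodd, hsimple, hnc, hsolv⟩ := hG
  obtain ⟨A₁, hA₁e, hA₁A, hA₁c⟩ := bg_exists_EA_of_not_pRankLE hA3
  have hp2 : p ≠ 2 := bg_prime_ne_two hodd (bg_isPGroup_of_isEA hA₁e)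
    (lt_trans (Nat.one_lt_pow (by norm_num) hp.one_lt) hA₁c)
  obtain ⟨E, hEe, hEC, hEc⟩ := bg_exists_EA_of_not_pRankLE hB3
  obtain ⟨P, hAP, hP⟩ := exists_isSylIn_ge hAp (le_top : A ≤ ⊤)
  obtain ⟨P', hEP', hP'⟩ := exists_isSylIn_ge (bg_isPGroup_of_isEA hEe) (le_top : E ≤ ⊤)
  obtain ⟨g, -, hg⟩ := hP'.exists_conj hP
  have hE'P : E.map (MulAut.conj g).toMonoidHom ≤ P := by
    rw [hg]
    exact Subgroup.map_mono hEP'
  have hE'e : IsElementaryAbelian p (E.map (MulAut.conj g).toMonoidHom) := bg_isEA_map hEe _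
  have hE'c : p ^ 2 < Nat.card (E.map (MulAut.conj g).toMonoidHom) := by
    rw [Cfsg.Agent.Lib.Helper23.card_mapConj]
    exact hEc
  have hrk : ¬ PRankLE p 2 ↥P := bg_not_pRankLE_of_EA hA₁e (hA₁A.trans hAP) hA₁c
  obtain ⟨V, hVP, hVe, hV2, hVd⟩ := bg_exists_EA_sq hP.2.1 hrk
  have key : ∀ D : Subgroup G, D ≤ P → p ^ 2 < Nat.card D →
      p < Nat.card ↥(D ⊓ Subgroup.centralizer (V : Set G)) := by
    intro D hDP hDc
    by_contra hle
    push Not at hle
    have h1 := Nat.le_of_dvd (Nat.mul_pos hp.pos Nat.card_pos) (hVd D hDP)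
    have h2 : p * Nat.card ↥(D ⊓ Subgroup.centralizer (V : Set G)) ≤ p * p :=
      Nat.mul_le_mul_left p hle
    rw [pow_two] at hDc
    omega
  have hK₁ : InUniqueMaximal (A₁ ⊓ Subgroup.centralizer (V : Set G)) := by
    apply h92 A _ hAU
    · intro x hx
      rw [Subgroup.mem_centralizer_iff]
      intro a ha
      exact congrArg Subtype.val (hAc.is_comm.comm (⟨a, ha⟩ : A) ⟨x, hA₁A hx.1⟩)
    · exact bg_not_rankLE_one hp (Cfsg.Agent.Lib.Helper23.isEA_of_le hA₁e inf_le_left) le_rfl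
        (key A₁ (hA₁A.trans hAP) hA₁c)
  have hVU : InUniqueMaximal V := by
    apply h92 _ V hK₁
    · intro v hv
      rw [Subgroup.mem_centralizer_iff]
      intro x hx
      exact (Subgroup.mem_centralizer_iff.mp hx.2 v hv).symm
    · exact bg_not_rankLE_one hp hVe le_rfl (by rw [hV2]; exact hpp)
  have hK₂ : InUniqueMaximal
      (E.map (MulAut.conj g).toMonoidHom ⊓ Subgroup.centralizer (V : Set G)) := by
    apply h92 V _ hVU inf_le_right
    exact bg_not_rankLE_one hp (Cfsg.Agent.Lib.Helper23.isEA_of_le hE'e inf_le_left) le_rfl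
      (key _ hE'P hE'c)
  have hE'U : InUniqueMaximal (E.map (MulAut.conj g).toMonoidHom) := by
    apply h92 _ _ hK₂
    · intro e he
      rw [Subgroup.mem_centralizer_iff]
      intro x hx
      exact Cfsg.Agent.Lib.Helper23.isEA_comm hE'e hx.1 he
    · exact bg_not_rankLE_one hp hE'e le_rfl (lt_trans hpp hE'c)
  have hEU : InUniqueMaximal E := by
    have h1 := bg_unique_mapConj hE'U g⁻¹
    rwa [Cfsg.Agent.Lib.Helper23.mapConj_mul, inv_mul_cancel,
      Cfsg.Agent.Lib.Helper23.mapConj_one] at h1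
  apply h92 E B hEU
  · intro b hb
    rw [Subgroup.mem_centralizer_iff]
    intro e he
    exact (Subgroup.mem_centralizer_iff.mp (hEC he) b hb).symm
  · exact bg_not_rankLE_one_of_not_isCyclic hp2 hBp hBnc

/-- BG Lemma 9.4 from Theorem 8.1 and Corollaries 9.2, 9.3. -/
theorem bg_lem94 (hG : IsMinSimpleOddOrder G) (h81 : BG81 G) (h92 : BG92 G) (h93 : BG93 G)
    (M : Subgroup G) (hM : IsCoatom M) (p : ℕ) [Fact p.Prime]
    (hF : ¬ PRankLE p 2 ↥(fittingOf M))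
    (A : Subgroup G) (hAp : IsPGroup p A) (hAc : IsMulCommutative A)
    (hA3 : ¬ PRankLE p 2 ↥A) : InUniqueMaximal A := by
  have hp : p.Prime := Fact.out
  have hpp : p < p ^ 2 := by
    have := hp.one_lt
    nlinarith
  have hle : A ≤ Subgroup.centralizer (A : Set G) := by
    intro x hx
    rw [Subgroup.mem_centralizer_iff]
    intro a ha
    exact congrArg Subtype.val (hAc.is_comm.comm (⟨a, ha⟩ : A) ⟨x, hx⟩)
  have hB3 : ¬ PRankLE p 2 ↥(Subgroup.centralizer (A : Set G)) := fun h =>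
    hA3 (bg_pRankLE_of_injective (Subgroup.inclusion hle) (Subgroup.inclusion_injective hle) h)
  have hAnc : ¬ IsCyclic ↥A := bg_not_isCyclic_of_not_pRankLE hp hA3
  rcases bg_81_core hG h81 M hM p hF with
    ⟨A₀, hA₀F, hA₀e, hA₀c, hU⟩ | ⟨A', -, hA'p, hA'c, hA'3, hA'U⟩
  · have hA₀U : InUniqueMaximal A₀ := by
      apply h92 _ A₀ hU
      · intro a ha
        rw [Subgroup.mem_centralizer_iff]
        intro x hx
        exact (Subgroup.mem_centralizer_iff.mp hx.2 a ha).symm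
      · exact bg_not_rankLE_one hp hA₀e le_rfl (lt_trans hpp hA₀c)
    exact h93 p A₀ A (bg_isPGroup_of_isEA hA₀e) hA₀e.1 (bg_not_pRankLE_of_EA hA₀e le_rfl hA₀c)
      hA₀U hAp hAnc hB3
  · exact h93 p A' A hA'p ⟨⟨fun a b => Subtype.ext (hA'c a a.2 b b.2)⟩⟩ hA'3 hA'U hAp hAnc hB3

/-- Every elementary abelian subgroup of rank at least 3 is a uniqueness subgroup. -/
theorem bg_rank3_uniq (hG : IsMinSimpleOddOrder G) (h93 : BG93 G) (h95 : BG95 G) {q : ℕ}
    (hq : q.Prime) {E : Subgroup G} (hEe : IsElementaryAbelian q E)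
    (hEc : q ^ 2 < Nat.card E) : InUniqueMaximal E := by
  haveI : Fact q.Prime := ⟨hq⟩
  obtain ⟨hodd, hsimple, hnc, hsolv⟩ := hG
  have hqq : q < q ^ 2 := by
    have := hq.one_lt
    nlinarith
  have hEp := bg_isPGroup_of_isEA hEe
  have hq2 : q ≠ 2 := bg_prime_ne_two hodd hEp
    (lt_trans (Nat.one_lt_pow (by norm_num) hq.one_lt) hEc)
  obtain ⟨P, hEP⟩ := hEp.exists_le_sylow
  have hrk : ¬ PRankLE q 2 ↥(P : Subgroup G) := bg_not_pRankLE_of_EA hEe hEP hEc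
  obtain ⟨A, hAscn, hA3⟩ := bg_exists_scn3 hq2 P.isPGroup' hrk
  have hAU := h95 q P A hAscn hA3
  have hAcomm := bg_isSCN_comm hAscn
  have hEle : E ≤ Subgroup.centralizer (E : Set G) := by
    intro x hx
    rw [Subgroup.mem_centralizer_iff]
    intro a ha
    exact Cfsg.Agent.Lib.Helper23.isEA_comm hEe ha hx
  exact h93 q A E (P.isPGroup'.to_le hAscn.1) ⟨⟨fun a b => Subtype.ext (hAcomm a a.2 b b.2)⟩⟩
    hA3 hAU hEp (bg_not_isCyclic_of_EA hq hEe (lt_trans hqq hEc))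
    (bg_not_pRankLE_of_EA hEe hEle hEc)

/-- BG Theorem 9.6 (the Uniqueness Theorem) from 9.2, 9.3 and 9.5. -/
theorem bg_thm96 (hG : IsMinSimpleOddOrder G) (h92 : BG92 G) (h93 : BG93 G) (h95 : BG95 G) :
    BG96 G := by
  intro K hK hK2 hK3
  rcases hK3 with h3 | h3
  · unfold RankLE at h3
    push Not at h3
    obtain ⟨q, hq, hqr⟩ := h3
    obtain ⟨E, hEe, hEK, hEc⟩ := bg_exists_EA_of_not_pRankLE hqr
    exact bg_unique_of_le' (bg_rank3_uniq hG h93 h95 hq hEe hEc) hEK hK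
  · unfold RankLE at h3
    push Not at h3
    obtain ⟨q, hq, hqr⟩ := h3
    obtain ⟨E, hEe, hEC, hEc⟩ := bg_exists_EA_of_not_pRankLE hqr
    apply h92 E K (bg_rank3_uniq hG h93 h95 hq hEe hEc) _ hK2
    intro k hk
    rw [Subgroup.mem_centralizer_iff]
    intro e he
    exact (Subgroup.mem_centralizer_iff.mp (hEC he) k hk).symm

end Cfsg.Agent.Lib.Helper61
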