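-- Internal versions of O_{q'}(K) and O_{q',q}(K) for a subgroup K of an ambient group (helper61).
import Mathlib
import Cfsg.Agent.Lib.Helper48.Generation
import Cfsg.Agent.Lib.Helper23.Transport
import Cfsg.Agent.Lib.Helper55.Cores
import Cfsg.Agent.S0017

set_option autoImplicit false

namespace Cfsg.Agent.Lib.Helper61

open scoped commutatorElement

variable {H : Type*} [Group H]

/-- A characteristic subgroup of `K`, viewed in the ambient group, is normalized by `N(K)`. -/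
theorem normalizer_le_normalizer_map_of_characteristic (K : Subgroup H) (M : Subgroup K)
    (hM : M.Characteristic) :
    Subgroup.normalizer (K : Set H) ≤
      Subgroup.normalizer ((M.map K.subtype : Subgroup H) : Set H) := by
  rw [Subgroup.le_normalizer_iff]
  rintro a ha _ ⟨y, hy, rfl⟩
  have h1 := Subgroup.characteristic_iff_map_eq.mp hM (Cfsg.Agent.Lib.Helper48.normConj K ⟨a, ha⟩)
  have h2 : Cfsg.Agent.Lib.Helper48.normConj K ⟨a, ha⟩ y ∈
      M.map (Cfsg.Agent.Lib.Helper48.normConj K ⟨a, ha⟩).toMonoidHom := ⟨y, hy, rfl⟩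
  rw [h1] at h2
  exact ⟨_, h2, rfl⟩

/-- A normal subgroup of `K`, viewed in the ambient group, is normalized by `K`. -/
theorem le_normalizer_map_of_normal (K : Subgroup H) (M : Subgroup K) (hM : M.Normal) :
    K ≤ Subgroup.normalizer ((M.map K.subtype : Subgroup H) : Set H) := by
  rw [Subgroup.le_normalizer_iff]
  rintro a ha _ ⟨y, hy, rfl⟩
  exact ⟨(⟨a, ha⟩ : K) * y * (⟨a, ha⟩ : K)⁻¹, hM.conj_mem y hy ⟨a, ha⟩, rfl⟩

/-- Elements of `O_{q',q}(K)` have a `q`-power power in `O_{q'}(K)`. -/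
theorem exists_pow_mem_pPrimeCore_of_mem_pPrimePCore (q : ℕ) [Fact q.Prime] (K : Subgroup H)
    {x : H} (hx : x ∈ (Cfsg.pPrimePCore q ↥K).map K.subtype) :
    ∃ k : ℕ, x ^ (q ^ k) ∈ (Cfsg.pPrimeCore q ↥K).map K.subtype := by
  obtain ⟨y, hy, rfl⟩ := hx
  have hy' : QuotientGroup.mk' (Cfsg.pPrimeCore q ↥K) y ∈ Cfsg.pCore q (↥K ⧸ Cfsg.pPrimeCore q ↥K) := hy
  obtain ⟨k, hk⟩ := (Cfsg.Agent.Lib.Helper55.pCore_isPGroup q (↥K ⧸ Cfsg.pPrimeCore q ↥K)) ⟨_, hy'⟩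
  have hk' : (QuotientGroup.mk' (Cfsg.pPrimeCore q ↥K) y) ^ (q ^ k) = 1 := congrArg Subtype.val hk
  rw [← map_pow] at hk'
  have h3 : y ^ (q ^ k) ∈ Cfsg.pPrimeCore q ↥K := (QuotientGroup.eq_one_iff _).mp hk'
  exact ⟨k, ⟨y ^ (q ^ k), h3, by simp⟩⟩

/-- Elements of `O_{q',q}(K)` of order prime to `q` lie in `O_{q'}(K)`. -/
theorem mem_pPrimeCore_of_mem_pPrimePCore_of_coprime (q : ℕ) [Fact q.Prime] (K : Subgroup H)
    {x : H} (hx : x ∈ (Cfsg.pPrimePCore q ↥K).map K.subtype) (hc : (orderOf x).Coprime q) :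
    x ∈ (Cfsg.pPrimeCore q ↥K).map K.subtype := by
  obtain ⟨k, hk⟩ := exists_pow_mem_pPrimeCore_of_mem_pPrimePCore q K hx
  obtain ⟨m, hm⟩ := exists_pow_eq_self_of_coprime (x := x) (n := q ^ k)
    (Nat.Coprime.pow_left k hc.symm)
  rw [← hm]
  exact Subgroup.pow_mem _ hk m

/-- Hall–Higman 1.2.3, internal form: in a solvable `K`, an element of `K` centralizing
`O_{q',q}(K)` modulo `O_{q'}(K)` lies in `O_{q',q}(K)`. -/
theorem mem_pPrimePCore_of_commutator_mem (q : ℕ) [Fact q.Prime] [Finite H] (K : Subgroup H)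
    [Group.IsSolvable ↥K] {x : H} (hx : x ∈ K)
    (hc : ∀ y ∈ (Cfsg.pPrimePCore q ↥K).map K.subtype, ⁅x, y⁆ ∈ (Cfsg.pPrimeCore q ↥K).map K.subtype) :
    x ∈ (Cfsg.pPrimePCore q ↥K).map K.subtype := by
  have hbot : Cfsg.pPrimeCore q (↥K ⧸ Cfsg.pPrimeCore q ↥K) = ⊥ :=
    Cfsg.Agent.Lib.Helper55.eq_bot_of_normal_coprime_quotient q ↥K _ inferInstance
      (Cfsg.Agent.Lib.Helper55.pPrimeCore_coprime q _)
  have h17 := Cfsg.Agent.S0017.result (G := ↥K ⧸ Cfsg.pPrimeCore q ↥K) q hbot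
  have hmem : QuotientGroup.mk' (Cfsg.pPrimeCore q ↥K) ⟨x, hx⟩ ∈
      Subgroup.centralizer (Cfsg.pCore q (↥K ⧸ Cfsg.pPrimeCore q ↥K) : Set (↥K ⧸ Cfsg.pPrimeCore q ↥K)) := by
    rw [Subgroup.mem_centralizer_iff]
    intro z hz
    obtain ⟨y, rfl⟩ := QuotientGroup.mk'_surjective (Cfsg.pPrimeCore q ↥K) z
    have hy : y ∈ Cfsg.pPrimePCore q ↥K := hz
    obtain ⟨n, hn, hn'⟩ := hc (y : H) ⟨y, hy, rfl⟩
    have h1 : ⁅(⟨x, hx⟩ : K), y⁆ = n := by
      apply Subtype.ext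
      have hn2 : (n : H) = ⁅x, (y : H)⁆ := hn'
      rw [hn2]
      simp [commutatorElement_def]
    have h2 : QuotientGroup.mk' (Cfsg.pPrimeCore q ↥K) ⁅(⟨x, hx⟩ : K), y⁆ = 1 := by
      rw [h1]; exact (QuotientGroup.eq_one_iff _).mpr hn
    rw [map_commutatorElement] at h2
    exact ((commutatorElement_eq_one_iff_commute.mp h2).eq).symm
  have h3 := h17 hmem
  exact ⟨⟨x, hx⟩, h3, rfl⟩

end Cfsg.Agent.Lib.Helper61
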