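import Mathlib
import Cfsg.Agent.Lib.Helper61.SL2Char2

set_option autoImplicit false

namespace Cfsg.Agent.Lib.Helper61

universe u

open Polynomial

section General

variable {F : Type u} [Field F]

local notation "SL2" => Matrix.SpecialLinearGroup (Fin 2) F
local notation "M2" => Matrix (Fin 2) (Fin 2) F

/-- Cayley-Hamilton for `SL₂`. -/
theorem sl2_cayley (g : SL2) :
    (g : M2) * (g : M2) = (Matrix.trace (g : M2)) • (g : M2) - 1 := by
  have hdet := sl2_det_entries g
  ext i j
  fin_cases i <;> fin_cases j <;> simp [Matrix.mul_apply, Fin.sum_univ_two, Matrix.trace_fin_two]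
  · linear_combination -hdet
  · ring
  · ring
  · linear_combination -hdet

/-- A polynomial divisible by the characteristic polynomial kills the matrix. -/
theorem aeval_of_cayley (A : M2) (t : F) (hCH : A * A = t • A - 1) (f Q : F[X])
    (h : f = (X ^ 2 - C t * X + 1) * Q) : aeval A f = 0 := by
  have hp : aeval A (X ^ 2 - C t * X + 1 : F[X]) = 0 := by
    simp only [map_add, map_sub, map_mul, aeval_X, aeval_C, map_one, sq, hCH,
      Algebra.algebraMap_eq_smul_one, smul_mul_assoc, one_mul]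
    abel
  rw [h, map_mul, hp, zero_mul]

end General

section F7

variable {F : Type u} [Field F] [Fintype F]

local notation "SL2" => Matrix.SpecialLinearGroup (Fin 2) F
local notation "M2" => Matrix (Fin 2) (Fin 2) F
local notation "PSL2" => Matrix.ProjectiveSpecialLinearGroup (Fin 2) F

theorem F7_seven_eq_zero (hF : Fintype.card F = 7) : (7 : F) = 0 := by
  have := Nat.cast_card_eq_zero F
  rw [hF] at this
  exact_mod_cast this

theorem F7_cases (hF : Fintype.card F = 7) (t : F) :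
    t = 0 ∨ t = 1 ∨ t = 2 ∨ t = 3 ∨ t = 4 ∨ t = 5 ∨ t = 6 := by
  have h7 := F7_seven_eq_zero hF
  have ht : t ^ 7 = t := by
    have := FiniteField.pow_card t
    rwa [hF] at this
  have : t * (t - 1) * (t - 2) * (t - 3) * (t - 4) * (t - 5) * (t - 6) = 0 := by
    linear_combination ht +
      (-3 * t ^ 6 + 25 * t ^ 5 - 105 * t ^ 4 + 232 * t ^ 3 - 252 * t ^ 2 + 103 * t) * h7
  simp only [mul_eq_zero, sub_eq_zero] at this
  tauto

theorem F7_seven_eq_zero_poly (hF : Fintype.card F = 7) : (7 : F[X]) = 0 := by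
  rw [← map_ofNat (C : F →+* F[X]) 7, F7_seven_eq_zero hF, map_zero]

omit [Fintype F] in
theorem sl2_F7_tr0 (g : SL2) (ht : Matrix.trace (g : M2) = 0) :
    (g : M2) ^ 2 = -1 := by
  have hCH := sl2_cayley g
  rw [ht, zero_smul, zero_sub] at hCH
  rw [sq, hCH]

omit [Fintype F] in
theorem sl2_F7_tr1 (g : SL2) (ht : Matrix.trace (g : M2) = 1) :
    (g : M2) ^ 3 = -1 := by
  have hCH := sl2_cayley g
  have h := aeval_of_cayley (g : M2) _ hCH (X ^ 3 + 1) (X + 1) (by rw [ht, map_one]; ring)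
  simp only [map_add, map_pow, aeval_X, map_one] at h
  exact eq_neg_of_add_eq_zero_left h

theorem sl2_F7_tr6 (hF : Fintype.card F = 7) (g : SL2) (ht : Matrix.trace (g : M2) = 6) :
    (g : M2) ^ 3 = 1 := by
  have h7 := F7_seven_eq_zero_poly hF
  have hCH := sl2_cayley g
  have h := aeval_of_cayley (g : M2) _ hCH (X ^ 3 - 1) (X + 6)
    (by rw [ht, map_ofNat]; linear_combination (5 * X - 1) * h7)
  simp only [map_sub, map_pow, aeval_X, map_one] at h
  exact sub_eq_zero.mp h

theorem sl2_F7_tr2 (hF : Fintype.card F = 7) (g : SL2) (ht : Matrix.trace (g : M2) = 2) :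
    (g : M2) ^ 7 = 1 := by
  have h7 := F7_seven_eq_zero_poly hF
  have hCH := sl2_cayley g
  have h := aeval_of_cayley (g : M2) _ hCH (X ^ 7 - 1)
    (X ^ 5 + 2 * X ^ 4 + 3 * X ^ 3 + 4 * X ^ 2 + 5 * X + 6)
    (by rw [ht, map_ofNat]; linear_combination (X - 1) * h7)
  simp only [map_sub, map_pow, aeval_X, map_one] at h
  exact sub_eq_zero.mp h

theorem sl2_F7_tr5 (hF : Fintype.card F = 7) (g : SL2) (ht : Matrix.trace (g : M2) = 5) :
    (g : M2) ^ 7 = -1 := by
  have h7 := F7_seven_eq_zero_poly hF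
  have hCH := sl2_cayley g
  have h := aeval_of_cayley (g : M2) _ hCH (X ^ 7 + 1)
    (X ^ 5 + 5 * X ^ 4 + 24 * X ^ 3 + 115 * X ^ 2 + 551 * X + 2640)
    (by rw [ht, map_ofNat]; linear_combination (1807 * X - 377) * h7)
  simp only [map_add, map_pow, aeval_X, map_one] at h
  exact eq_neg_of_add_eq_zero_left h

theorem sl2_F7_tr3 (hF : Fintype.card F = 7) (g : SL2) (ht : Matrix.trace (g : M2) = 3) :
    (g : M2) ^ 4 = -1 := by
  have h7 := F7_seven_eq_zero_poly hF
  have hCH := sl2_cayley g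
  have h := aeval_of_cayley (g : M2) _ hCH (X ^ 4 + 1) (X ^ 2 + 3 * X + 8)
    (by rw [ht, map_ofNat]; linear_combination (3 * X - 1) * h7)
  simp only [map_add, map_pow, aeval_X, map_one] at h
  exact eq_neg_of_add_eq_zero_left h

theorem sl2_F7_tr4 (hF : Fintype.card F = 7) (g : SL2) (ht : Matrix.trace (g : M2) = 4) :
    (g : M2) ^ 4 = -1 := by
  have h7 := F7_seven_eq_zero_poly hF
  have hCH := sl2_cayley g
  have h := aeval_of_cayley (g : M2) _ hCH (X ^ 4 + 1) (X ^ 2 + 4 * X + 15)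
    (by rw [ht, map_ofNat]; linear_combination (8 * X - 2) * h7)
  simp only [map_add, map_pow, aeval_X, map_one] at h
  exact eq_neg_of_add_eq_zero_left h

omit [Fintype F] in
/-- An element of `SL₂` whose `n`-th power is `±1` has trivial `n`-th power in `PSL₂`. -/
theorem psl2_pow_eq_one (g : SL2) (n : ℕ) (h : (g : M2) ^ n = 1 ∨ (g : M2) ^ n = -1) :
    (QuotientGroup.mk g : PSL2) ^ n = 1 := by
  rw [← QuotientGroup.mk_pow, QuotientGroup.eq_one_iff, Matrix.SpecialLinearGroup.mem_center_iff]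
  rcases h with h | h
  · refine ⟨1, one_pow _, ?_⟩
    rw [Matrix.SpecialLinearGroup.coe_pow, h]
    simp
  · refine ⟨-1, by simp, ?_⟩
    rw [Matrix.SpecialLinearGroup.coe_pow, h]
    ext i j
    fin_cases i <;> fin_cases j <;> simp

omit [Fintype F] in
/-- An element of `SL₂` with a nonzero off-diagonal entry is nontrivial in `PSL₂`. -/
theorem psl2_ne_one (g : SL2) (h : g 0 1 ≠ 0) : (QuotientGroup.mk g : PSL2) ≠ 1 := by
  rw [Ne, QuotientGroup.eq_one_iff, Matrix.SpecialLinearGroup.mem_center_iff]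
  rintro ⟨r, -, hr⟩
  apply h
  rw [← hr]
  simp

/-- Every element of `PSL₂(7)` has order dividing 3, 4 or 7. -/
theorem psl2_F7_pow (hF : Fintype.card F = 7) (x : PSL2) :
    x ^ 3 = 1 ∨ x ^ 4 = 1 ∨ x ^ 7 = 1 := by
  obtain ⟨g, rfl⟩ := QuotientGroup.mk_surjective x
  rcases F7_cases hF (Matrix.trace (g : M2)) with h | h | h | h | h | h | h
  · refine Or.inr (Or.inl ?_)
    rw [show 4 = 2 * 2 from rfl, pow_mul, psl2_pow_eq_one g 2 (Or.inr (sl2_F7_tr0 g h)), one_pow]
  · exact Or.inl (psl2_pow_eq_one g 3 (Or.inr (sl2_F7_tr1 g h)))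
  · exact Or.inr (Or.inr (psl2_pow_eq_one g 7 (Or.inl (sl2_F7_tr2 hF g h))))
  · exact Or.inr (Or.inl (psl2_pow_eq_one g 4 (Or.inr (sl2_F7_tr3 hF g h))))
  · exact Or.inr (Or.inl (psl2_pow_eq_one g 4 (Or.inr (sl2_F7_tr4 hF g h))))
  · exact Or.inr (Or.inr (psl2_pow_eq_one g 7 (Or.inr (sl2_F7_tr5 hF g h))))
  · exact Or.inl (psl2_pow_eq_one g 3 (Or.inl (sl2_F7_tr6 hF g h)))

omit [Fintype F] in
theorem not_mul_dvd_prime_pow {p q r k : ℕ} (hp : p.Prime) (hq : q.Prime) (hr : r.Prime)
    (hpq : p ≠ q) : ¬ p * q ∣ r ^ k := by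
  intro h
  have h1 : p = r :=
    (Nat.prime_dvd_prime_iff_eq hp hr).mp (hp.dvd_of_dvd_pow ((dvd_mul_right p q).trans h))
  have h2 : q = r :=
    (Nat.prime_dvd_prime_iff_eq hq hr).mp (hq.dvd_of_dvd_pow ((dvd_mul_left q p).trans h))
  exact hpq (h1.trans h2.symm)

/-- `PSL₂(7)` has no element of order `p * q` for distinct primes `p`, `q`. -/
theorem psl2_F7_no_pq (hF : Fintype.card F = 7) {p q : ℕ} (hp : p.Prime) (hq : q.Prime)
    (hpq : p ≠ q) (x : PSL2) : orderOf x ≠ p * q := by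
  intro h
  rcases psl2_F7_pow hF x with h3 | h4 | h7
  · have := orderOf_dvd_of_pow_eq_one h3
    rw [h] at this
    exact not_mul_dvd_prime_pow (k := 1) hp hq Nat.prime_three hpq (by simpa using this)
  · have := orderOf_dvd_of_pow_eq_one h4
    rw [h] at this
    exact not_mul_dvd_prime_pow (k := 2) hp hq Nat.prime_two hpq (by simpa using this)
  · have := orderOf_dvd_of_pow_eq_one h7
    rw [h] at this
    exact not_mul_dvd_prime_pow (k := 1) hp hq (by norm_num : Nat.Prime 7) hpq (by simpa using this)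

/-- The prime divisors of the order of `PSL₂(7)` are 2, 3 and 7. -/
theorem psl2_F7_prime_dvd (hF : Fintype.card F = 7) (p : ℕ) (hp : p.Prime) :
    p ∣ Nat.card PSL2 ↔ p = 2 ∨ p = 3 ∨ p = 7 := by
  have h7 := F7_seven_eq_zero hF
  have : Finite SL2 := Subtype.finite
  constructor
  · intro h
    have : Fact p.Prime := ⟨hp⟩
    obtain ⟨x, hx⟩ := exists_prime_orderOf_dvd_card' (G := PSL2) p h
    rcases psl2_F7_pow hF x with h3 | h4 | h7'
    · have := orderOf_dvd_of_pow_eq_one h3
      rw [hx] at this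
      exact Or.inr (Or.inl ((Nat.prime_dvd_prime_iff_eq hp Nat.prime_three).mp this))
    · have := orderOf_dvd_of_pow_eq_one h4
      rw [hx] at this
      exact Or.inl ((Nat.prime_dvd_prime_iff_eq hp Nat.prime_two).mp
        (hp.dvd_of_dvd_pow (show p ∣ 2 ^ 2 from this)))
    · have := orderOf_dvd_of_pow_eq_one h7'
      rw [hx] at this
      exact Or.inr (Or.inr ((Nat.prime_dvd_prime_iff_eq hp (by norm_num)).mp this))
  · rintro (rfl | rfl | rfl)
    · let u : SL2 := ⟨!![0, 1; -1, 0], by simp [Matrix.det_fin_two]⟩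
      have hu : (QuotientGroup.mk u : PSL2) ^ 2 = 1 :=
        psl2_pow_eq_one u 2 (Or.inr (sl2_F7_tr0 u (by simp [u, Matrix.trace_fin_two])))
      have hu1 : (QuotientGroup.mk u : PSL2) ≠ 1 := psl2_ne_one u (by simp [u])
      have : Fact (Nat.Prime 2) := ⟨Nat.prime_two⟩
      have ho := orderOf_eq_prime hu hu1
      have hd := orderOf_dvd_natCard (QuotientGroup.mk u : PSL2)
      rwa [ho] at hd
    · let u : SL2 := ⟨!![0, 1; -1, -1], by simp [Matrix.det_fin_two]⟩
      have hu : (QuotientGroup.mk u : PSL2) ^ 3 = 1 :=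
        psl2_pow_eq_one u 3 (Or.inl (sl2_F7_tr6 hF u (by
          simp [u, Matrix.trace_fin_two]; linear_combination -h7)))
      have hu1 : (QuotientGroup.mk u : PSL2) ≠ 1 := psl2_ne_one u (by simp [u])
      have : Fact (Nat.Prime 3) := ⟨Nat.prime_three⟩
      have ho := orderOf_eq_prime hu hu1
      have hd := orderOf_dvd_natCard (QuotientGroup.mk u : PSL2)
      rwa [ho] at hd
    · let u : SL2 := ⟨!![1, 1; 0, 1], by simp [Matrix.det_fin_two]⟩
      have hu : (QuotientGroup.mk u : PSL2) ^ 7 = 1 :=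
        psl2_pow_eq_one u 7 (Or.inl (sl2_F7_tr2 hF u (by
          simp [u, Matrix.trace_fin_two]; norm_num)))
      have hu1 : (QuotientGroup.mk u : PSL2) ≠ 1 := psl2_ne_one u (by simp [u])
      have : Fact (Nat.Prime 7) := ⟨by norm_num⟩
      have ho := orderOf_eq_prime hu hu1
      have hd := orderOf_dvd_natCard (QuotientGroup.mk u : PSL2)
      rwa [ho] at hd

end F7

section F8

variable {F : Type u} [Field F] [Fintype F] [CharP F 2]

local notation "SL2" => Matrix.SpecialLinearGroup (Fin 2) F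
local notation "M2" => Matrix (Fin 2) (Fin 2) F

/-- Every element of `SL₂(8)` has order dividing 2, 7 or 9. -/
theorem sl2_F8_pow (hF : Fintype.card F = 8) (g : SL2) : g ^ 2 = 1 ∨ g ^ 7 = 1 ∨ g ^ 9 = 1 := by
  by_cases ht : Matrix.trace (g : M2) = 0
  · exact Or.inl (sl2_sq_eq_one_of_trace_eq_zero g ht)
  · right
    generalize htdef : Matrix.trace (g : M2) = t at ht
    have ht7 : t ^ 7 = 1 := by
      have := FiniteField.pow_card_sub_one_eq_one t ht
      rwa [hF] at this
    have h2 : (2 : F) = 0 := CharTwo.two_eq_zero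
    have h2X : (2 : F[X]) = 0 := by rw [← map_ofNat (C : F →+* F[X]) 2, h2, map_zero]
    have hT7 : (C t : F[X]) ^ 7 = 1 := by rw [← C_pow, ht7, C_1]
    have hCH := sl2_cayley g
    rw [htdef] at hCH
    have hc : (C (t ^ 6 + t ^ 4 + 1) : F[X]) = C t ^ 6 + C t ^ 4 + 1 := by
      simp only [C_add, C_pow, C_1]
    have h := aeval_of_cayley (g : M2) t hCH (X ^ 8 - X - C (t ^ 6 + t ^ 4 + 1))
      (X ^ 6 + X ^ 5 * C t + X ^ 4 * C t ^ 2 - X ^ 4 + X ^ 3 * C t ^ 3 - 2 * X ^ 3 * C t
        + X ^ 2 * C t ^ 4 - 3 * X ^ 2 * C t ^ 2 + X ^ 2 + X * C t ^ 5 - 4 * X * C t ^ 3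
        + 3 * X * C t + C t ^ 6 - 5 * C t ^ 4 + 6 * C t ^ 2 - 1)
      (by
        rw [hc]
        linear_combination X * hT7 + ((-3 * C t ^ 5 + 5 * C t ^ 3 - 2 * C t) * X
          + (-C t ^ 6 + 2 * C t ^ 4 - 3 * C t ^ 2)) * h2X)
    simp only [map_sub, map_pow, aeval_X, aeval_C] at h
    have hcc : (t ^ 6 + t ^ 4 + 1) * (t ^ 6 + t ^ 4 + 1 + t) = 0 := by
      linear_combination (t ^ 5 + 2 * t ^ 3 + t + 1) * ht7
        + (t ^ 6 + t ^ 5 + t ^ 4 + t ^ 3 + t + 1) * h2
    rcases mul_eq_zero.mp hcc with h0 | h1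
    · left
      rw [h0, map_zero, sub_zero] at h
      have hA8 : (g : M2) ^ 8 = (g : M2) := sub_eq_zero.mp h
      have h8 : g ^ 8 = g := by
        ext i j
        rw [Matrix.SpecialLinearGroup.coe_pow, hA8]
      have : g ^ 7 * g = 1 * g := by rw [← pow_succ, h8, one_mul]
      exact mul_right_cancel this
    · right
      have hct : t ^ 6 + t ^ 4 + 1 = t := by linear_combination h1 - t * h2
      rw [hct] at h
      have hA8 : (g : M2) ^ 8 = (g : M2) + algebraMap F M2 t :=
        sub_eq_iff_eq_add'.mp (sub_eq_zero.mp h)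
      have hneg : (-1 : M2) = 1 := by
        ext i j
        fin_cases i <;> fin_cases j <;> simp
        all_goals linear_combination -h2
      ext i j
      rw [Matrix.SpecialLinearGroup.coe_pow, pow_succ, hA8, add_mul, hCH,
        Algebra.algebraMap_eq_smul_one, smul_mul_assoc, one_mul,
        Matrix.SpecialLinearGroup.coe_one]
      have hsum : t • (g : M2) + t • (g : M2) = 0 := by
        rw [← add_smul, ← two_mul, h2, zero_mul, zero_smul]
      have : t • (g : M2) - 1 + t • (g : M2) = 1 :=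
        calc t • (g : M2) - 1 + t • (g : M2) = (t • (g : M2) + t • (g : M2)) - 1 := by abel
          _ = -1 := by rw [hsum, zero_sub]
          _ = 1 := hneg
      rw [this]

omit [Fintype F] in
/-- `SL₂` over a field of characteristic 2 has order divisible by 3. -/
theorem three_dvd_card_sl2 : 3 ∣ Nat.card SL2 := by
  have h2 : (2 : F) = 0 := CharTwo.two_eq_zero
  let u : SL2 := ⟨!![0, 1; 1, 1], by simp [Matrix.det_fin_two]; linear_combination -h2⟩
  have hu3 : u ^ 3 = 1 := by
    ext i j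
    rw [Matrix.SpecialLinearGroup.coe_pow, Matrix.SpecialLinearGroup.coe_one]
    fin_cases i <;> fin_cases j <;>
      simp [u, pow_succ, Matrix.mul_apply, Fin.sum_univ_two]
    all_goals linear_combination h2
  have hu1 : u ≠ 1 := by
    intro h
    have := congrArg (fun A : SL2 => A 0 1) h
    simp [u] at this
  have : Fact (Nat.Prime 3) := ⟨Nat.prime_three⟩
  have ho : orderOf u = 3 := orderOf_eq_prime hu3 hu1
  have := orderOf_dvd_natCard u
  rwa [ho] at this

omit [CharP F 2] in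
/-- `SL₂(8)` has order divisible by 7. -/
theorem seven_dvd_card_sl2_F8 (hF : Fintype.card F = 8) : 7 ∣ Nat.card SL2 := by
  classical
  obtain ⟨l, -, hl⟩ := Finset.exists_mem_notMem_of_card_lt_card
    (s := ({0, 1} : Finset F)) (t := Finset.univ) (by
      rw [Finset.card_univ, hF]
      exact lt_of_le_of_lt (Finset.card_insert_le _ _) (by simp))
  have hl0 : l ≠ 0 := fun h => hl (by simp [h])
  have hl1 : l ≠ 1 := fun h => hl (by simp [h])
  have hl7 : l ^ 7 = 1 := by
    have := FiniteField.pow_card_sub_one_eq_one l hl0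
    rwa [hF] at this
  let u : SL2 := ⟨Matrix.diagonal ![l, l⁻¹], by
    rw [Matrix.det_diagonal, Fin.prod_univ_two]
    simp [hl0]⟩
  have hu7 : u ^ 7 = 1 := by
    ext i j
    rw [Matrix.SpecialLinearGroup.coe_pow, Matrix.SpecialLinearGroup.coe_one]
    show (Matrix.diagonal ![l, l⁻¹] ^ 7 : M2) i j = (1 : M2) i j
    rw [Matrix.diagonal_pow]
    fin_cases i <;> fin_cases j <;> simp [hl7]
  have hu1 : u ≠ 1 := by
    intro h
    have := congrArg (fun A : SL2 => A 0 0) h
    simp [u] at this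
    exact hl1 this
  have : Fact (Nat.Prime 7) := ⟨by norm_num⟩
  have ho : orderOf u = 7 := orderOf_eq_prime hu7 hu1
  have := orderOf_dvd_natCard u
  rwa [ho] at this

end F8

end Cfsg.Agent.Lib.Helper61
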